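import Mathlib
import Cfsg.Agent.LocalEven.PMin
import Cfsg.Agent.LocalEven.Resid
import Cfsg.Agent.Comp2.GenFitting
import Cfsg.Agent.Core.SylowOf
import Cfsg.Agent.Core.Coprime2
import Cfsg.Agent.Core.Fitting
import Cfsg.Agent.Core.Product

/-! Isolated `p`-minimal subgroups: the abstract configuration. -/

set_option autoImplicit false

namespace Cfsg.Agent.H4J

open Subgroup Cfsg Cfsg.Agent.LocalEven

variable {G : Type*} [Group G] {p : ℕ}

/-- McBride's generation lemma. -/
theorem mcbride [Finite G] [Fact p.Prime] {S : Subgroup G} (hS : IsSylowIn p S ⊤)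
    (M : Subgroup G) : ∀ (n : ℕ) (H : Subgroup G), Nat.card H = n → S ≤ H →
      normalizer (S : Set G) ⊓ H ≤ M →
      (∀ P' : Subgroup G, S ≤ P' → P' ≤ H → IsPMinimal p P' → P' ≤ M) → H ≤ M := by
  intro n
  induction n using Nat.strong_induction_on with
  | _ n ih =>
  intro H hn hSH h1 h2
  by_cases hN : H ≤ normalizer (S : Set G)
  · exact (le_inf hN le_rfl).trans h1
  have hlt : ∀ X : Subgroup G, S ≤ X → X < H → X ≤ M := fun X a b =>
    ih _ (hn ▸ lt_of_le_of_ne (card_le_of_le b.le) fun e => b.ne (eq_of_le_of_card_ge b.le e.ge)) X rfl a ((inf_le_inf_left _ b.le).trans h1)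
      fun P' c d e => h2 P' c (d.trans b.le) e
  let M' : Subgroup G := sSup {X | S ≤ X ∧ X < H}
  have hM'H : M' ≤ H := sSup_le fun X hX => hX.2.le
  rcases hM'H.lt_or_eq with h | h
  · have hSH' : S < H := lt_of_le_of_ne hSH fun e => hN (e ▸ le_normalizer)
    have := minIn_of_sylow (hS.mono hSH le_top) hN (le_sSup (s := {X | S ≤ X ∧ X < H}) ⟨le_rfl, hSH'⟩)
      h fun X a b => le_sSup (s := {X | S ≤ X ∧ X < H}) ⟨a, b⟩
    exact h2 H hSH le_rfl ((isPMinimal_iff (hS.mono hSH le_top)).2 ⟨_, this⟩)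
  · rw [← h]
    exact sSup_le fun X hX => hlt X hX.1 hX.2

/-- The abstract configuration. -/
structure IsoP (p : ℕ) (S X E L : Subgroup G) : Prop where
  pS : IsPGroup p S
  SL : S ≤ L
  ES : E ≤ S
  LE : L ≤ normalizer (E : Set G)
  SX : S ≤ normalizer (X : Set G)
  dich : ∀ N : Subgroup G, S ≤ normalizer (N : Set G) → X ≤ N ∨ N ≤ L
  gen : ∀ H : Subgroup G, S ≤ H → H ≤ X ⊔ (H ⊓ L)
  nle : ¬ X ≤ L
  comm : X ≤ ⁅X, E⁆

theorem isoP_of [Finite G] [Fact p.Prime] {S P L : Subgroup G} (hS : IsSylowIn p S ⊤) (hSP : S ≤ P)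
    (hNL : normalizer (S : Set G) ≤ L)
    (hL : ∀ P' : Subgroup G, S ≤ P' → IsPMinimal p P' → P' ≠ P → P' ≤ L)
    (hiso : ¬ pCoreOf p L ≤ pCoreOf p P) : IsoP p S (pResOf p P) (pCoreOf p L) L := by
  have hSL : S ≤ L := le_normalizer.trans hNL
  have hES : pCoreOf p L ≤ S := (hS.mono hSL le_top).pCoreOf_le
  have hP : pResOf p P ⊔ S = P := (hS.mono hSP le_top).pResOf_sup
  have hSX : S ≤ normalizer (pResOf p P : Set G) := hSP.trans (le_normalizer_pResOf P)
  have dich : ∀ N : Subgroup G, S ≤ normalizer (N : Set G) → pResOf p P ≤ N ∨ N ≤ L := by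
    intro N hN
    by_cases h : P ≤ N ⊔ S
    · exact Or.inl ((pResOf_mono h).trans (pResOf_sup_le hS.pgrp hN))
    · refine Or.inr (le_sup_left.trans (mcbride hS L _ (N ⊔ S) rfl le_sup_right
        (inf_le_left.trans hNL) fun P' a b c => hL P' a c fun e => h (e ▸ b)))
  refine ⟨hS.pgrp, hSL, hES, le_normalizer_pCoreOf L, hSX, dich, fun H hH => ?_, fun h => ?_, ?_⟩
  · refine mcbride hS _ _ H rfl hH
      ((le_inf inf_le_right (inf_le_left.trans hNL)).trans le_sup_right) fun P' a b c => ?_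
    by_cases e : P' = P
    · rw [e]
      exact hP.ge.trans (sup_le_sup_left (le_inf hH hSL) _)
    · exact (le_inf b (hL P' a c e)).trans le_sup_right
  · have hPL : P ≤ L := hP ▸ sup_le h hSL
    exact hiso (pCoreOf_le_of_le hPL (hES.trans hSP))
  · have hSE : S ≤ normalizer (pCoreOf p L : Set G) := hSL.trans (le_normalizer_pCoreOf L)
    refine (dich _ (le_normalizer_commutator hSX hSE)).resolve_right fun h => hiso ?_
    set X := pResOf p P
    set E := pCoreOf p L
    have hXD : X ≤ normalizer ((⁅X, E⁆ ⊔ E : Subgroup G) : Set G) := by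
      refine le_normalizer_of_commutator_le (H := ⁅X, E⁆ ⊔ E) (L := ⁅X, E⁆ ⊔ E) ?_ le_rfl
      refine (commutator_sup_left_le (N := ⁅X, E⁆) ?_ ?_ le_normalizer
        (right_le_normalizer_commutator X E)).trans le_sup_left
      · exact commutator_le_left_of_le_normalizer (left_le_normalizer_commutator X E)
      · rw [commutator_comm]
    have hPD : P ≤ normalizer ((⁅X, E⁆ ⊔ E : Subgroup G) : Set G) := by
      rw [← hP]
      exact sup_le hXD (le_normalizer_sup (le_normalizer_commutator hSX hSE) hSE)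
    have h1 : E ≤ pCoreOf p (⁅X, E⁆ ⊔ E) :=
      pCoreOf_le_of_le (sup_le h (pCoreOf_le L)) le_sup_right
    refine (le_inf h1 (hES.trans hSP)).trans (le_pCoreOf inf_le_right (le_normalizer_inf
      (hPD.trans (normalizer_le_normalizer_pCoreOf _)) le_normalizer)
      (isPGroup_pCoreOf _).to_inf_left)

namespace IsoP

variable {S X E L : Subgroup G}

theorem map {G' : Type*} [Group G'] (h : IsoP p S X E L) (f : G →* G')
    (hf : Function.Surjective f) (hk : f.ker ≤ S) :
    IsoP p (S.map f) (X.map f) (E.map f) (L.map f) := by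
  refine ⟨h.pS.map f, map_mono h.SL, map_mono h.ES, (map_mono h.LE).trans (le_normalizer_map f),
    (map_mono h.SX).trans (le_normalizer_map f), fun N hN => ?_, fun H hH => ?_, fun h1 => ?_, ?_⟩
  · have h1 : S ≤ normalizer (N.comap f : Set G) :=
      (map_le_iff_le_comap.1 hN).trans (le_normalizer_comap f)
    rcases h.dich _ h1 with h2 | h2
    · exact Or.inl (map_le_iff_le_comap.2 h2)
    · right
      rw [← map_comap_eq_self_of_surjective hf N]
      exact map_mono h2
  · have h1 := map_mono (f := f) (h.gen (H.comap f) (map_le_iff_le_comap.1 hH))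
    rw [map_comap_eq_self_of_surjective hf, Subgroup.map_sup] at h1
    refine h1.trans (sup_le_sup_left ((map_inf_le _ _ f).trans ?_) _)
    rw [map_comap_eq_self_of_surjective hf]
  · have := map_le_iff_le_comap.1 h1
    rw [comap_map_eq, sup_eq_left.2 (hk.trans h.SL)] at this
    exact h.nle this
  · rw [← map_commutator]
    exact map_mono h.comm

theorem ne_bot (h : IsoP p S X E L) : X ≠ ⊥ := fun e => h.nle (e ▸ bot_le)

theorem comm_ne_bot (h : IsoP p S X E L) {N : Subgroup G} (hN : X ≤ N) : ⁅N, E⁆ ≠ ⊥ := fun e =>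
  h.ne_bot (le_bot_iff.1 (h.comm.trans ((commutator_mono hN le_rfl).trans e.le)))

theorem sup_eq_top (h : IsoP p S X E L) : X ⊔ L = ⊤ := by
  have := h.gen ⊤ le_top
  rwa [top_inf_eq, top_le_iff] at this

theorem normal_of (h : IsoP p S X E L) {N : Subgroup G} (h1 : X ≤ normalizer (N : Set G))
    (h2 : L ≤ normalizer (N : Set G)) : N.Normal :=
  normalizer_eq_top_iff.1 (top_le_iff.1 (h.sup_eq_top ▸ sup_le h1 h2))

theorem comm_le_inf (h : IsoP p S X E L) {N : Subgroup G} (hN : S ≤ normalizer (N : Set G))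
    (hL : N ≤ L) : ⁅N, E⁆ ≤ N ⊓ E :=
  le_inf (commutator_le_left_of_le_normalizer (h.ES.trans hN))
    (commutator_le_right_of_le_normalizer (hL.trans h.LE))

variable [Finite G] [hp : Fact p.Prime]

theorem inf_eq_bot (h : IsoP p S X E L) {N : Subgroup G} (hc : (Nat.card N).Coprime p) :
    N ⊓ S = ⊥ :=
  inf_eq_bot_of_coprime (Core.coprime_of_isPGroup h.pS hc)

theorem dich' (h : IsoP p S X E L) {N : Subgroup G} (hN : S ≤ normalizer (N : Set G))
    (hc : (Nat.card N).Coprime p) : X ≤ N ∨ ⁅N, E⁆ = ⊥ :=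
  (h.dich N hN).imp_right fun hL => le_bot_iff.1 ((h.comm_le_inf hN hL).trans
    ((inf_le_inf_left _ h.ES).trans (h.inf_eq_bot hc).le))

theorem dich_sub (h : IsoP p S X E L) (hO : pCore p G = ⊥) {N : Subgroup G}
    (hN : S ≤ normalizer (N : Set G)) (hs : N.IsSubnormal) : X ≤ N ∨ ⁅N, E⁆ = ⊥ :=
  (h.dich N hN).imp_right fun hL => le_bot_iff.1 (hO ▸ le_pCore_of_isSubnormal
    (Comp2.isSubnormal_of_le_normalizer ((h.comm_le_inf hN hL).trans inf_le_left)
      (left_le_normalizer_commutator N E) hs)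
    (h.pS.to_le (((h.comm_le_inf hN hL).trans inf_le_right).trans h.ES)))

theorem tcase (h : IsoP p S X E L) {N : Subgroup G} (hN : S ≤ normalizer (N : Set G))
    (hc : (Nat.card N).Coprime p) (hne : ⁅N, E⁆ ≠ ⊥) :
    X = ⁅N, E⁆ ∧ ∃ t : ℕ, t.Prime ∧ t ≠ p ∧ IsPGroup t X ∧ ⁅⁅X, X⁆, X⁆ = ⊥ := by
  have hSs : Group.IsSolvable S := by
    haveI := h.pS.isNilpotent
    infer_instance
  have hEs : Group.IsSolvable E := by
    haveI := (h.pS.to_le h.ES).isNilpotent
    infer_instance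
  have hcop : (Nat.card S).Coprime (Nat.card N) := (Core.coprime_of_isPGroup h.pS hc).symm
  have hsub : ∀ {A : Subgroup G}, A ≤ N → (Nat.card A).Coprime p := fun hA =>
    hc.coprime_dvd_left (card_dvd_of_le hA)
  -- invariant Sylow subgroups
  have hsyl : ∀ t : ℕ, t.Prime → ∃ T : Subgroup G, Core.IsSylowOf t T N ∧
      S ≤ normalizer (T : Set G) ∧ (X ≤ T ∨ T ≤ centralizer (E : Set G)) := fun t ht => by
    haveI := Fact.mk ht
    obtain ⟨T, h1, h2⟩ := Core.exists_invariant_isSylowOf S N hN hcop (Or.inl hSs) t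
    exact ⟨T, h1, h2, (h.dich' h2 (hsub h1.le)).imp_right commutator_eq_bot_iff.1⟩
  have hidx : (centralizer (E : Set G)).relIndex N ≠ 1 := fun e =>
    hne (commutator_eq_bot_iff.2 (relIndex_eq_one.1 e))
  obtain ⟨t, ht, htd⟩ := Nat.exists_prime_and_dvd hidx
  haveI := Fact.mk ht
  obtain ⟨T, hT, hST, hT'⟩ := hsyl t ht
  have hXT : X ≤ T := hT'.resolve_right fun h1 =>
    hT.not_dvd (htd.trans (relIndex_dvd_of_le_left _ h1))
  have hXt : IsPGroup t X := hT.isPGroup.to_le hXT
  have hXN : X ≤ N := hXT.trans hT.le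
  have htp : t ≠ p := fun e => h.ne_bot (by
    have := h.inf_eq_bot (hsub hXN)
    subst e
    exact eq_bot_of_not_dvd hXt le_rfl (ht.coprime_iff_not_dvd.1 (hsub hXN).symm))
  have hcp : (T.relIndex N).Coprime ((centralizer (E : Set G)).relIndex N) := by
    refine Nat.coprime_of_dvd fun r hr h1 h2 => ?_
    haveI := Fact.mk hr
    obtain ⟨T', hT', -, h3 | h3⟩ := hsyl r hr
    · have hrt : r ≠ t := fun e => hT.not_dvd (e ▸ h1)
      exact h.ne_bot (le_bot_iff.1 ((le_inf h3 hXT).trans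
        (IsPGroup.disjoint_of_ne r t hrt _ _ hT'.isPGroup hT.isPGroup).le_bot))
    · exact hT'.not_dvd (h2.trans (relIndex_dvd_of_le_left _ h3))
  have hRT : ⁅N, E⁆ ≤ T :=
    (Core.commutator_le_of_mul_centralizer fun k hk =>
      Core.exists_mul_of_coprime_relIndex hcp k hk).trans
      (commutator_le_left_of_le_normalizer (h.ES.trans hST))
  have hSE : S ≤ normalizer (E : Set G) := h.SL.trans h.LE
  have hRR : ⁅⁅N, E⁆, E⁆ = ⁅N, E⁆ := Core.commutator_commutator_eq E N (h.ES.trans hN)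
    (hcop.coprime_dvd_left (card_dvd_of_le h.ES)) (Or.inl hEs)
  have hXR : X ≤ ⁅N, E⁆ := h.comm.trans (commutator_mono hXN le_rfl)
  have hSR : S ≤ normalizer ((⁅N, E⁆ : Subgroup G) : Set G) := le_normalizer_commutator hN hSE
  have hRN : ⁅N, E⁆ ≤ N := hRT.trans hT.le
  generalize ⁅N, E⁆ = R at hRT hRR hXR hSR hRN
  have hRL : ⁅R ⊓ L, E⁆ = ⊥ := by
    have hS' : S ≤ normalizer ((R ⊓ L : Subgroup G) : Set G) :=
      le_normalizer_inf hSR (h.SL.trans le_normalizer)
    exact (h.dich' hS' (hsub (inf_le_left.trans hRN))).resolve_left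
      fun h1 => h.nle (h1.trans inf_le_right)
  have hgen : R ≤ X ⊔ (R ⊓ L) := by
    have h1 := h.gen (R ⊔ S) le_sup_right
    rw [Core.sup_inf_of_le_right hSR h.SL, ← sup_assoc] at h1
    have h2 : S ≤ normalizer ((X ⊔ R ⊓ L : Subgroup G) : Set G) :=
      le_normalizer_sup h.SX (le_normalizer_inf hSR (h.SL.trans le_normalizer))
    have h3 := Core.sup_inf_of_le_left h2 (sup_le hXR inf_le_left : X ⊔ R ⊓ L ≤ R)
    rw [inf_comm S R, h.inf_eq_bot (hsub hRN), sup_bot_eq] at h3
    rw [← h3]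
    exact le_inf (le_sup_left.trans h1) le_rfl
  have hXeq : X = R := by
    by_contra hne'
    obtain ⟨M, hXM, hM⟩ := Finite.exists_le_maximal (p := fun M => M < R)
      (lt_of_le_of_ne hXR hne')
    have h1 := lt_inf_normalizer (hT.isPGroup.to_le hRT) hM.1
    have h2 : R ≤ normalizer (M : Set G) := by
      by_contra h3
      exact h1.not_ge (hM.2 (lt_of_le_of_ne inf_le_left fun e => h3 (e ▸ inf_le_right)) h1.le)
    have h3 : ⁅X ⊔ (R ⊓ L), E⁆ ≤ M := commutator_sup_left_le
      ((commutator_le_left_of_le_normalizer (h.ES.trans h.SX)).trans hXM) (hRL.le.trans bot_le)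
      (hXR.trans h2) (inf_le_left.trans h2)
    exact hM.1.not_ge (hRR.ge.trans ((commutator_mono hgen le_rfl).trans h3))
  refine ⟨hXeq, t, ht, htp, hXt, ?_⟩
  have h1 : ⁅X, X⁆ < X := Core.commutator_lt_of_isPGroup hXt hXt le_normalizer h.ne_bot
  have h2 : ⁅⁅X, X⁆, E⁆ = ⊥ := (h.dich' (le_normalizer_commutator h.SX h.SX)
    (hsub (h1.le.trans hXN))).resolve_left h1.not_ge
  have h3 : E ≤ centralizer ((⁅X, X⁆ : Subgroup G) : Set G) :=
    le_centralizer_iff.1 (commutator_eq_bot_iff.1 h2)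
  have h4 : X ≤ centralizer ((⁅X, X⁆ : Subgroup G) : Set G) :=
    h.comm.trans ((commutator_mono le_rfl h3).trans (commutator_le_right_of_le_normalizer
      (le_normalizer_centralizer (left_le_normalizer_commutator X X))))
  exact commutator_eq_bot_iff.2 (le_centralizer_iff.1 h4)

end IsoP

end Cfsg.Agent.H4J
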