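import Mathlib
import Cfsg.Agent.H4J.IsoA

/-! Isolated `p`-minimal subgroups: the structure of the normal closure. -/

set_option autoImplicit false

namespace Cfsg.Agent.H4J

open Subgroup Cfsg Cfsg.Agent.LocalEven

variable {G : Type*} [Group G] {p : ℕ}

/-- The join of the `S`-conjugates of `K`. -/
def orbJ (S K : Subgroup G) : Subgroup G := ⨆ s : S, cj (s : G) K

theorem cj_le_orbJ {S : Subgroup G} (K : Subgroup G) {s : G} (hs : s ∈ S) : cj s K ≤ orbJ S K :=
  le_iSup (fun s : S => cj (s : G) K) ⟨s, hs⟩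

theorem orbJ_le {S K M : Subgroup G} (h : ∀ s ∈ S, cj s K ≤ M) : orbJ S K ≤ M :=
  iSup_le fun s => h s s.2

theorem le_orbJ (S K : Subgroup G) : K ≤ orbJ S K := by
  have := cj_le_orbJ K S.one_mem
  rwa [cj_one] at this

theorem le_normalizer_orbJ (S K : Subgroup G) : S ≤ normalizer (orbJ S K : Set G) :=
  le_normalizer_of_cj_le fun g hg => cj_le_iff.2 (orbJ_le fun s hs => cj_le_iff.1 (by
    rw [cj_cj]; exact cj_le_orbJ K (S.mul_mem hg hs)))

theorem orbJ_subnormal (S : Subgroup G) {K : Subgroup G} (hK : IsComponent K) :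
    (orbJ S K).IsSubnormal := by
  refine Comp2.isSubnormal_of_le_normalizer (H := layer G)
    (orbJ_le fun s _ => Comp2.component_le_layer (Comp2.component_conj hK s))
    (le_normalizer_of_cj_le fun g hg => cj_le_iff.2 (orbJ_le fun s hs => cj_le_iff.1 ?_))
    (Normal.isSubnormal inferInstance)
  rw [cj_eq_of_mem_normalizer (Comp2.layer_le_normalizer (Comp2.component_conj hK s) hg)]
  exact cj_le_orbJ K hs

namespace IsoP

variable {S X E L : Subgroup G} [Finite G] [hp : Fact p.Prime]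

theorem le_genFitting (h : IsoP p S X E L) (hO : pCore p G = ⊥) :
    X ≤ generalizedFittingSubgroup G := by
  refine (h.dich_sub hO le_normalizer_of_normal (Normal.isSubnormal inferInstance)).resolve_right
    fun h1 => h.comm_ne_bot le_rfl ?_
  have h2 : E ≤ ⊥ := hO ▸ Core.le_pCore_of_le_fitting (h.pS.to_le h.ES)
    ((le_centralizer_iff.1 (commutator_eq_bot_iff.1 h1)).trans
      Comp2.centralizer_genFitting_le_fitting)
  rw [le_bot_iff.1 h2, commutator_bot_right]

theorem main (h : IsoP p S X E L) (hO : pCore p G = ⊥) {Y : Subgroup G}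
    (hY : Y = normalClosure (X : Set G)) :
    (X.Normal ∧ ∃ t : ℕ, t.Prime ∧ t ≠ p ∧ IsPGroup t X ∧ ⁅⁅X, X⁆, X⁆ = ⊥) ∨
    (p ∣ Nat.card Y ∧ (∀ M : Subgroup G, (∀ K, IsComponent K → K ≤ Y → K ≤ M) → Y ≤ M) ∧
      (∃ K, IsComponent K ∧ K ≤ Y) ∧
      ∀ K₁ K₂ : Subgroup G, IsComponent K₁ → K₁ ≤ Y → IsComponent K₂ → K₂ ≤ Y →
        ∃ s ∈ S, K₂ = cj s K₁) := by
  have hnorm : ∀ N : Subgroup G, N.Normal → X = ⁅N, E⁆ → X.Normal := fun N _ e =>
    h.normal_of le_normalizer (e ▸ le_normalizer_commutator le_normalizer_of_normal h.LE)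
  by_cases hF : ⁅fittingSubgroup G, E⁆ = ⊥
  swap
  · have hc : (Nat.card (fittingSubgroup G)).Coprime p := by
      have := Core.fitting_le_pCore_sup_pPrimeCore (G := G) p
      rw [hO, bot_sup_eq] at this
      exact (Core.pPrimeCore_coprime p).coprime_dvd_left (card_dvd_of_le this)
    obtain ⟨h1, h2⟩ := h.tcase le_normalizer_of_normal hc hF
    exact Or.inl ⟨hnorm _ inferInstance h1, h2⟩
  right
  haveI hYn : Y.Normal := hY ▸ normalClosure_normal
  have hXY : X ≤ Y := hY ▸ le_normalClosure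
  have hZ : ∀ N : Subgroup G, N.IsSubnormal → X ≤ N → ¬ X ≤ centralizer (N : Set G) :=
    fun N hs h1 h2 => h.comm_ne_bot ((le_inf h1 h2).trans (Comp2.le_fitting_of_subnormal
      (Comp2.isSubnormal_of_le_normalizer inf_le_left
        (le_normalizer_inf le_normalizer (le_normalizer_centralizer le_normalizer)) hs)
      (Comp2.isNilpotent_of_le_centralizer
        (inf_le_right.trans (centralizer_le inf_le_left))))) hF
  have hXo : ∀ K : Subgroup G, IsComponent K → ⁅K, E⁆ ≠ ⊥ → X ≤ orbJ S K := fun K hK hne =>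
    (h.dich_sub hO (le_normalizer_orbJ S K) (orbJ_subnormal S hK)).resolve_right fun e =>
      hne (le_bot_iff.1 ((commutator_mono (le_orbJ S K) le_rfl).trans e.le))
  have hXF := h.le_genFitting hO
  obtain ⟨K₀, hK₀, hK₀E⟩ : ∃ K, IsComponent K ∧ ⁅K, E⁆ ≠ ⊥ := by
    by_contra hcon
    push Not at hcon
    refine h.comm_ne_bot hXF (commutator_eq_bot_iff.2 (sup_le ?_ (commutator_eq_bot_iff.1 hF)))
    exact commutator_eq_bot_iff.1 (Comp2.commutator_layer_eq_bot_iff.2 hcon)
  let C : Set (Subgroup G) := {K | IsComponent K ∧ ⁅K, E⁆ ≠ ⊥}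
  have hCL : ∀ g ∈ L, ∀ K ∈ C, cj g K ∈ C := fun g hg K hK =>
    ⟨Comp2.component_conj hK.1 g, fun e => hK.2 (by
      rw [← cj_eq_of_mem_normalizer (h.LE hg), ← cj_commutator, cj_eq_bot] at e
      exact e)⟩
  haveI hMn : (sSup C).Normal := by
    refine h.normal_of (le_normalizer_of_cj_le fun g hg => cj_le_iff.2 (sSup_le fun K hK =>
      cj_le_iff.1 ?_)) (le_normalizer_of_cj_le fun g hg => cj_le_iff.2 (sSup_le fun K hK =>
      cj_le_iff.1 (le_sSup (hCL g hg K hK))))
    rw [cj_eq_of_mem_normalizer (Comp2.genFitting_le_normalizer_component hK.1 (hXF hg))]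
    exact le_sSup hK
  have hYM : Y ≤ sSup C := by
    rw [hY]
    exact normalClosure_le_normal ((hXo K₀ hK₀ hK₀E).trans (orbJ_le fun s hs =>
      le_sSup (hCL s (h.SL hs) K₀ ⟨hK₀, hK₀E⟩)))
  have hCY : ∀ K ∈ C, K ≤ Y := fun K hK =>
    (Comp2.component_le_or_commutator_eq_bot_of_normal hK.1 Y).resolve_right fun e =>
      hZ _ (orbJ_subnormal S hK.1) (hXo K hK.1 hK.2) (hXY.trans (le_centralizer_iff.1
        (orbJ_le fun s _ => cj_le_of_mem_normalizer (le_normalizer_of_normal (mem_top s))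
          (commutator_eq_bot_iff.1 e))))
  have hYC : ∀ K : Subgroup G, IsComponent K → K ≤ Y → K ∈ C := fun K hK hKY => by
    by_contra hn
    refine Comp2.quasisimple_not_le_centralizer hK.2 (hKY.trans (hYM.trans (sSup_le fun K' hK' =>
      commutator_eq_bot_iff.1 (Comp2.component_commutator_eq_bot_of_ne hK'.1 hK fun e => hn
        (e ▸ hK')))))
  refine ⟨by_contra fun hd => ?_, fun M hM => hYM.trans (sSup_le fun K hK =>
    hM K hK.1 (hCY K hK)), ⟨K₀, hK₀, hCY K₀ ⟨hK₀, hK₀E⟩⟩, fun K₁ K₂ h1 h1' h2 h2' => ?_⟩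
  · obtain ⟨e, t, ht, -, hXt, -⟩ := h.tcase (N := Y) le_normalizer_of_normal
      ((hp.out.coprime_iff_not_dvd.2 hd).symm) (h.comm_ne_bot hXY)
    haveI := Fact.mk ht
    exact h.comm_ne_bot (Core.le_fitting (hnorm Y hYn e) hXt.isNilpotent) hF
  · by_contra hcon
    push Not at hcon
    refine hZ _ (orbJ_subnormal S h1) (hXo K₁ h1 (hYC K₁ h1 h1').2)
      ((hXo K₂ h2 (hYC K₂ h2 h2').2).trans (orbJ_le fun s hs => le_centralizer_iff.1
        (orbJ_le fun s' hs' => commutator_eq_bot_iff.1 (Comp2.component_commutator_eq_bot_of_ne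
          (Comp2.component_conj h1 s') (Comp2.component_conj h2 s) fun e => ?_))))
    refine hcon (s⁻¹ * s') (S.mul_mem (S.inv_mem hs) hs') ?_
    rw [cj_mul]
    exact cj_eq_iff.1 (Eq.symm e)

end IsoP

section Pull

variable (p) (Y : Subgroup G) [Y.Normal]

theorem pCore_eq_subgroupOf : pCore p Y = (pCore p G).subgroupOf Y := by
  apply map_injective Y.subtype_injective
  rw [Core.map_pCore_subtype, subgroupOf_map_subtype]

/-- The embedding `Y / O_p(Y) → G / O_p(G)`. -/
def psi : (Y ⧸ pCore p Y) →* (G ⧸ pCore p G) :=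
  QuotientGroup.map _ _ Y.subtype (pCore_eq_subgroupOf p Y).le

theorem psi_mk (y : Y) :
    psi p Y (QuotientGroup.mk' _ y) = QuotientGroup.mk' (pCore p G) (y : G) := rfl

theorem psi_inj : Function.Injective (psi p Y) := by
  rw [injective_iff_map_eq_one]
  intro a ha
  obtain ⟨y, rfl⟩ := QuotientGroup.mk'_surjective _ a
  rw [psi_mk] at ha
  refine (QuotientGroup.eq_one_iff _).2 ?_
  rw [pCore_eq_subgroupOf]
  exact (QuotientGroup.eq_one_iff (y : G)).1 ha

theorem psi_range : (psi p Y).range = Y.map (QuotientGroup.mk' (pCore p G)) := by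
  ext x
  constructor
  · rintro ⟨a, rfl⟩
    obtain ⟨y, rfl⟩ := QuotientGroup.mk'_surjective _ a
    exact ⟨y, y.2, rfl⟩
  · rintro ⟨y, hy, rfl⟩
    exact ⟨QuotientGroup.mk' _ ⟨y, hy⟩, rfl⟩

theorem psi_component (K : Subgroup (Y ⧸ pCore p Y)) :
    IsComponent (K.map (psi p Y)) ↔ IsComponent K := by
  have hn : (psi p Y).range.IsSubnormal := by
    rw [psi_range]
    exact Normal.isSubnormal (Normal.map inferInstance _ (QuotientGroup.mk'_surjective _))
  rw [← Comp2.component_map_equiv (MonoidHom.ofInjective (psi_inj p Y)) (K := K),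
    ← Comp2.component_map_subtype_iff hn, map_map]
  rfl

theorem psi_pull (K : Subgroup (Y ⧸ pCore p Y)) :
    (K.comap (QuotientGroup.mk' (pCore p Y))).map Y.subtype =
      Y ⊓ (K.map (psi p Y)).comap (QuotientGroup.mk' (pCore p G)) := by
  ext x
  constructor
  · rintro ⟨y, hy, rfl⟩
    exact ⟨y.2, _, hy, rfl⟩
  · rintro ⟨hx, a, ha, e⟩
    refine ⟨⟨x, hx⟩, ?_, rfl⟩
    have : a = QuotientGroup.mk' _ (⟨x, hx⟩ : Y) := psi_inj p Y (by rw [e, psi_mk])
    rw [this] at ha
    exact ha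

omit [Y.Normal] in
theorem cj_comap {G' : Type*} [Group G'] (f : G →* G') (s : G) (A : Subgroup G') :
    cj s (A.comap f) = (cj (f s) A).comap f := by
  ext x
  simp only [mem_cj, mem_comap, map_mul, map_inv]

end Pull

section Final

variable [Finite G] [hp : Fact p.Prime] {S X E L : Subgroup G}

theorem IsoP.quot (h : IsoP p S X E L) (hS : IsSylowIn p S ⊤) :
    IsoP p (S.map (QuotientGroup.mk' (pCore p G))) (X.map (QuotientGroup.mk' (pCore p G)))
      (E.map (QuotientGroup.mk' (pCore p G))) (L.map (QuotientGroup.mk' (pCore p G))) :=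
  h.map _ (QuotientGroup.mk'_surjective _) (by
    rw [QuotientGroup.ker_mk', ← pCoreOf_top]; exact hS.pCoreOf_le)

theorem IsoP.final (h : IsoP p S X E L) (hS : IsSylowIn p S ⊤) (hX : pResOf p X = X)
    {Y : Subgroup G} [Y.Normal] (hY : Y = normalClosure (X : Set G)) :
    (X = Y ∧ ∃ t : ℕ, t.Prime ∧ t ≠ p ∧ IsPGroup t (Y ⧸ pCore p Y) ∧
      ∃ _ : Group.IsNilpotent (Y ⧸ pCore p Y), Group.nilpotencyClass (Y ⧸ pCore p Y) ≤ 2) ∨
    (¬ Group.IsSolvable Y ∧ p ∣ Nat.card (Y ⧸ pCore p Y) ∧ layer (Y ⧸ pCore p Y) = ⊤ ∧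
      ∀ K₁ K₂ : Subgroup (Y ⧸ pCore p Y), IsComponent K₁ → IsComponent K₂ →
        ∃ s ∈ S, (K₂.comap (QuotientGroup.mk' (pCore p Y))).map Y.subtype =
          cj s ((K₁.comap (QuotientGroup.mk' (pCore p Y))).map Y.subtype)) := by
  have hYq : Y.map (QuotientGroup.mk' (pCore p G)) =
      normalClosure (X.map (QuotientGroup.mk' (pCore p G)) : Set (G ⧸ pCore p G)) := by
    rw [hY, map_normalClosure _ _ (QuotientGroup.mk'_surjective _), coe_map]
  have hOS : pCore p G ≤ S := by rw [← pCoreOf_top]; exact hS.pCoreOf_le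
  rcases (h.quot hS).main LocalEven.pCore_quotient_pCore hYq with
    ⟨hn, t, ht, htp, hXt, hcl⟩ | ⟨h1, h2, ⟨K, hK, hKY⟩, h4⟩
  · left
    have hXn : X.Normal := by
      have h1 := hn.comap (QuotientGroup.mk' (pCore p G))
      rw [comap_map_eq, QuotientGroup.ker_mk'] at h1
      have h2 := pResOf_normal (p := p) (X ⊔ pCore p G)
      rwa [pResOf_sup_eq isPGroup_pCore (hOS.trans h.SX), hX] at h2
    have hXY : X = Y := by rw [hY, normalClosure_eq_self]
    subst hXY
    haveI := Fact.mk ht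
    have hQ : IsPGroup t (X ⧸ pCore p X) := by
      rw [← psi_range] at hXt
      exact hXt.of_equiv (MonoidHom.ofInjective (psi_inj p X)).symm
    refine ⟨rfl, t, ht, htp, hQ, hQ.isNilpotent, ?_⟩
    haveI := hQ.isNilpotent
    rw [← Subgroup.lowerCentralSeries_eq_bot_iff_nilpotencyClass_le,
      ← map_eq_bot_iff_of_injective _ (psi_inj p X)]
    simp only [Subgroup.lowerCentralSeries_succ, Subgroup.lowerCentralSeries_zero, map_commutator,
      ← MonoidHom.range_eq_map, psi_range]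
    exact hcl
  · right
    refine ⟨fun hs => Comp2.quasisimple_not_le_of_isSolvable hK.2 ?_ hKY, ?_, ?_,
      fun K₁ K₂ a b => ?_⟩
    · exact solvable_of_surjective ((QuotientGroup.mk' (pCore p G)).subgroupMap_surjective Y)
    · rwa [← psi_range, ← Nat.card_congr (MonoidHom.ofInjective (psi_inj p Y)).toEquiv] at h1
    · rw [eq_top_iff, ← map_le_map_iff_of_injective (psi_inj p Y), ← MonoidHom.range_eq_map,
        psi_range]
      refine h2 _ fun K' hK' hle => ?_
      rw [← psi_range] at hle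
      rw [← map_comap_eq_self hle] at hK' ⊢
      exact map_mono (Comp2.component_le_layer ((psi_component p Y _).1 hK'))
    · obtain ⟨_, ⟨s, hs, rfl⟩, e⟩ := h4 _ _ ((psi_component p Y _).2 a)
        ((map_le_range _ _).trans (psi_range p Y).le) ((psi_component p Y _).2 b)
        ((map_le_range _ _).trans (psi_range p Y).le)
      refine ⟨s, hs, ?_⟩
      rw [psi_pull, psi_pull, e, cj_inf, cj_eq_of_normal s Y, cj_comap]

end Final

end Cfsg.Agent.H4J
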