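import Mathlib
import Cfsg.Agent.Perm.TW
import Cfsg.Agent.LocalEven.Resid

/-! Local actions containing the alternating group: basic lemmas. -/

set_option autoImplicit false
set_option linter.unusedSectionVars false

namespace Cfsg.Agent.H4J

open Subgroup Cfsg Cfsg.Agent.LocalEven Equiv

section PermFacts

variable {α : Type*} [Fintype α] [DecidableEq α]

theorem alt_not_comm (h5 : 5 ≤ Nat.card α) :
    ¬ alternatingGroup α ≤ centralizer (alternatingGroup α : Set (Perm α)) := fun h => by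
  haveI := alternatingGroup.isSimpleGroup h5
  have h1 := alternatingGroup.center_eq_bot (α := α) (by omega)
  have h2 : center (alternatingGroup α) = ⊤ := top_le_iff.1 fun x _ =>
    mem_center_iff.2 fun y => Subtype.ext (h x.2 y y.2)
  exact bot_ne_top (h1.symm.trans h2)

theorem cent_alt (h5 : 5 ≤ Nat.card α) :
    centralizer (alternatingGroup α : Set (Perm α)) = ⊥ := by
  by_contra h
  exact alt_not_comm h5 (Perm.alternatingGroup_le_of_normal h5 ((nontrivial_iff_ne_bot _).2 h))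

theorem bot_or_alt_le (h5 : 5 ≤ Nat.card α) {M : Subgroup (Perm α)}
    (h : alternatingGroup α ≤ normalizer (M : Set (Perm α))) : M = ⊥ ∨ alternatingGroup α ≤ M := by
  haveI := normal_subgroupOf_of_le_normalizer h
  rcases alternatingGroup.normal_subgroup_eq_bot_or_eq_top h5
    (N := M.subgroupOf (alternatingGroup α)) with h1 | h1
  · left
    rw [subgroupOf_eq_bot] at h1
    rw [eq_bot_iff, ← cent_alt h5, ← LocalEven.commutator_eq_bot_iff, eq_bot_iff, ← h1.eq_bot]
    exact le_inf (commutator_le_left_of_le_normalizer h) (commutator_le_right _ _)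
  · exact Or.inr (subgroupOf_eq_top.1 h1)

theorem alt_not_solvable (h5 : 5 ≤ Nat.card α) : ¬ Group.IsSolvable (alternatingGroup α) :=
  fun h => by
  haveI := alternatingGroup.isSimpleGroup h5
  exact alt_not_comm h5 fun x hx y hy =>
    congrArg Subtype.val (IsSimpleGroup.comm_iff_isSolvable.2 h ⟨y, hy⟩ ⟨x, hx⟩)

theorem two_mul_alt (h5 : 5 ≤ Nat.card α) :
    2 * Nat.card (alternatingGroup α) = (Nat.card α).factorial := by
  haveI : Nontrivial α := Finite.one_lt_card_iff_nontrivial.1 (by omega)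
  rw [two_mul_nat_card_alternatingGroup, Nat.card_perm]

theorem fact_lt_alt (h5 : 5 ≤ Nat.card α) :
    (Nat.card α - 1).factorial < Nat.card (alternatingGroup α) := by
  have h1 := two_mul_alt h5
  rw [← Nat.mul_factorial_pred (by omega : Nat.card α ≠ 0)] at h1
  have h2 := Nat.factorial_pos (Nat.card α - 1)
  nlinarith

end PermFacts

variable {G : Type*} [Group G]

/-- The image of `N ⊓ H`. -/
abbrev im {H : Subgroup G} {Q : Type*} [Group Q] (φ : H →* Q) (N : Subgroup G) : Subgroup Q :=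
  (N.subgroupOf H).map φ

/-- `A` is the kernel of `φ`. -/
structure Kr {Q : Type*} [Group Q] (H A : Subgroup G) (φ : H →* Q) : Prop where
  le : A ≤ H
  ker : ∀ h : H, φ h = 1 ↔ (h : G) ∈ A

namespace Kr

variable {Q : Type*} [Group Q] {H A : Subgroup G} {φ : H →* Q}

theorem norm (h : Kr H A φ) : H ≤ normalizer (A : Set G) :=
  le_normalizer_of_cj_le fun g hg => cj_le_iff'.2 fun x hx =>
    (h.ker (⟨g, hg⟩ * ⟨x, h.le hx⟩ * ⟨g, hg⟩⁻¹)).1 (by
      rw [map_mul, map_mul, (h.ker ⟨x, h.le hx⟩).2 hx, map_inv, mul_one, mul_inv_cancel])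

theorem card_im (h : Kr H A φ) {N : Subgroup G} (hN : N ≤ H) :
    Nat.card (im φ N) = A.relIndex N := by
  have h1 : im φ N = (φ.comp (inclusion hN)).range := by
    ext x
    constructor
    · rintro ⟨y, hy, rfl⟩
      exact ⟨⟨y, hy⟩, rfl⟩
    · rintro ⟨y, rfl⟩
      exact ⟨inclusion hN y, y.2, rfl⟩
  have h2 : (φ.comp (inclusion hN)).ker = A.subgroupOf N := by
    ext x
    exact h.ker (inclusion hN x)
  rw [h1, ← index_ker, h2, relIndex]

theorem im_self (φ : H →* Q) : im φ H = φ.range := by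
  rw [im, subgroupOf_self, MonoidHom.range_eq_map]

theorem card_im_of_disj (h : Kr H A φ) {N : Subgroup G} (hN : N ≤ H) (hd : N ⊓ A = ⊥) :
    Nat.card (im φ N) = Nat.card N := by
  rw [h.card_im hN, ← inf_relIndex_left, hd, relIndex_bot_left]

theorem le_of_im (h : Kr H A φ) {N : Subgroup G} (hN : N ≤ H) (h1 : im φ N = ⊥) : N ≤ A :=
  fun x hx => (h.ker ⟨x, hN hx⟩).1 (mem_bot.1 (h1 ▸ mem_map_of_mem φ (mem_subgroupOf.2 hx)))

end Kr

theorem im_norm {Q : Type*} [Group Q] {H : Subgroup G} (φ : H →* Q) {N Y : Subgroup G}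
    (hn : Y ≤ normalizer (N : Set G)) : im φ Y ≤ normalizer (im φ N : Set Q) := by
  refine le_trans (map_mono ?_) (le_normalizer_map φ)
  exact (comap_mono hn).trans (le_normalizer_comap H.subtype)

theorem im_mono {Q : Type*} [Group Q] {H : Subgroup G} (φ : H →* Q) {N Y : Subgroup G}
    (h : N ≤ Y) : im φ N ≤ im φ Y := map_mono (comap_mono h)

variable [Finite G]

theorem card_im_le {Q : Type*} [Group Q] {H : Subgroup G} (φ : H →* Q) {N : Subgroup G}
    (hN : N ≤ H) : Nat.card (im φ N) ≤ Nat.card N := by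
  rw [← card_subgroupOf hN]
  exact Nat.le_of_dvd Nat.card_pos (card_map_dvd _ φ)

variable {α : Type*} [Fintype α] [DecidableEq α]

/-- A local action containing the alternating group. -/
structure Lc (H A : Subgroup G) (φ : H →* Perm α) : Prop extends Kr H A φ where
  five : 5 ≤ Nat.card α
  alt : alternatingGroup α ≤ φ.range

namespace Lc

variable {H A : Subgroup G} {φ : H →* Perm α}

theorem dich' (h : Lc H A φ) {N Y : Subgroup G} (hN : N ≤ H) (hY : alternatingGroup α ≤ im φ Y)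
    (hn : Y ≤ normalizer (N : Set G)) : N ≤ A ∨ alternatingGroup α ≤ im φ N :=
  (bot_or_alt_le h.five (hY.trans (im_norm φ hn))).imp_left (h.toKr.le_of_im hN)

theorem dich (h : Lc H A φ) {N : Subgroup G} (hN : N ≤ H)
    (hn : H ≤ normalizer (N : Set G)) : N ≤ A ∨ alternatingGroup α ≤ im φ N :=
  h.dich' hN (Kr.im_self φ ▸ h.alt) hn

theorem le_of_card (h : Lc H A φ) {N : Subgroup G} (hN : N ≤ H)
    (hn : H ≤ normalizer (N : Set G)) (hc : Nat.card N < Nat.card (alternatingGroup α)) : N ≤ A :=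
  (h.dich hN hn).resolve_right fun h1 => hc.not_ge ((card_le_of_le h1).trans (card_im_le φ hN))

theorem le_of_nilpotent (h : Lc H A φ) {N : Subgroup G} (hN : N ≤ H)
    (hn : H ≤ normalizer (N : Set G)) (hc : Group.IsNilpotent N) : N ≤ A :=
  (h.dich hN hn).resolve_right fun h1 => alt_not_solvable h.five (by
    haveI : Group.IsSolvable (N.subgroupOf H) :=
      solvable_of_solvable_injective (f := (subgroupOfEquivOfLe hN).toMonoidHom)
        (subgroupOfEquivOfLe hN).injective
    haveI : Group.IsSolvable (im φ N) := solvable_of_surjective (φ.subgroupMap_surjective _)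
    exact solvable_of_solvable_injective (inclusion_injective h1))

theorem mem_of_cent (h : Lc H A φ) {N : Subgroup G} (hN : alternatingGroup α ≤ im φ N) {x : H}
    (hx : (x : G) ∈ centralizer (N : Set G)) : φ x = 1 := by
  rw [← mem_bot, ← cent_alt h.five]
  intro σ hσ
  obtain ⟨y, hy, rfl⟩ := hN hσ
  rw [← map_mul, ← map_mul]
  congr 1
  exact Subtype.ext (hx y hy)

theorem card_le (h : Lc H A φ) {N : Subgroup G} (hN : N ≤ H) (hd : N ⊓ A = ⊥) :
    Nat.card N ≤ (Nat.card α).factorial := by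
  rw [← h.toKr.card_im_of_disj hN hd, ← Nat.card_perm]
  exact card_le_card_group _

end Lc

/-- The join of the subgroups of `X` without proper normal subgroups of index `< m`. -/
def Rm (m : ℕ) (X : Subgroup G) : Subgroup G :=
  sSup {Y | Y ≤ X ∧ ∀ N ≤ Y, Y ≤ normalizer (N : Set G) → N.relIndex Y < m → N = Y}

theorem Rm_le (m : ℕ) (X : Subgroup G) : Rm m X ≤ X := sSup_le fun _ h => h.1

theorem Rm_mono (m : ℕ) {X X' : Subgroup G} (h : X ≤ X') : Rm m X ≤ Rm m X' :=
  sSup_le_sSup fun _ hY => ⟨hY.1.trans h, hY.2⟩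

theorem Rm_le_of (m : ℕ) {X N : Subgroup G} (hn : X ≤ normalizer (N : Set G))
    (hi : N.relIndex X < m) : Rm m X ≤ Rm m N :=
  sSup_le_sSup fun Y hY => ⟨inf_eq_right.1 (hY.2 (N ⊓ Y) inf_le_right
    (le_normalizer_inf (hY.1.trans hn) le_normalizer) (by
      rw [inf_relIndex_right]
      exact (relIndex_le_of_le_right hY.1 index_ne_zero_of_finite).trans_lt hi)), hY.2⟩

theorem cj_Rm_le (m : ℕ) (g : G) (X : Subgroup G) : cj g (Rm m X) ≤ Rm m (cj g X) :=
  cj_le_iff.2 (sSup_le fun Y hY => cj_le_iff.1 (le_sSup ⟨cj_mono g hY.1, fun N h1 h2 h3 => by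
    have := hY.2 (cj g⁻¹ N) (le_cj_iff.1 h1) (by rw [← cj_normalizer]; exact cj_le_iff.1 h2)
      (by rwa [← relIndex_cj g, cj_cj_inv])
    rw [← this, cj_cj_inv]⟩))

theorem Lc.step1 {H A : Subgroup G} {φ : H →* Perm α} (h : Lc H A φ) {B A₂ : Subgroup G} {k : G}
    (hBH : B ≤ H) (hi : A.relIndex B < Nat.card (alternatingGroup α)) (hk : cj k B ≤ H)
    (h1 : A₂ ≤ cj k B) (h2 : H ≤ normalizer (A₂ : Set G)) :
    Nat.card (alternatingGroup α) ≤ A₂.relIndex H := by
  by_contra hlt
  push Not at hlt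
  set m := Nat.card (alternatingGroup α)
  have a1 : Rm m H ≤ Rm m (cj k B) := (Rm_le_of m h2 hlt).trans (Rm_mono m h1)
  have a2 : cj k⁻¹ (Rm m (cj k B)) ≤ Rm m A := by
    refine (cj_Rm_le m _ _).trans ?_
    rw [cj_inv_cj]
    exact Rm_le_of m (hBH.trans h.toKr.norm) hi
  have a3 : Rm m A = Rm m H := eq_of_le_of_card_le (Rm_mono m h.le)
    ((card_le_of_le a1).trans ((card_cj k⁻¹ _).ge.trans (card_le_of_le a2)))
  obtain ⟨Y, -, hY⟩ := Finite.exists_le_minimal
    (p := fun Y : Subgroup G => Y ≤ H ∧ alternatingGroup α ≤ im φ Y)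
    (a := H) ⟨le_rfl, Kr.im_self φ ▸ h.alt⟩
  have a4 : m ≤ A.relIndex Y := h.toKr.card_im hY.1.1 ▸ card_le_of_le hY.1.2
  have a5 : Y ≤ Rm m H := le_sSup ⟨hY.1.1, fun N b1 b2 b3 => by
    rcases h.dich' (b1.trans hY.1.1) hY.1.2 b2 with b4 | b4
    · exact absurd (a4.trans (relIndex_le_of_le_left b4 index_ne_zero_of_finite)) b3.not_ge
    · exact le_antisymm b1 (hY.2 ⟨b1.trans hY.1.1, b4⟩ b1)⟩
  rw [relIndex_eq_one.2 (a5.trans (a3.ge.trans (Rm_le m A)))] at a4
  have := fact_lt_alt h.five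
  have := Nat.factorial_pos (Nat.card α - 1)
  omega

/-- A pointed local action. -/
structure Pt (H B A : Subgroup G) (φ : H →* Perm α) (pt : α) : Prop extends Lc H A φ where
  six : 6 ≤ Nat.card α
  leB : B ≤ H
  stab : ∀ h : H, φ h pt = pt ↔ (h : G) ∈ B

namespace Pt

variable {H B A : Subgroup G} {φ : H →* Perm α} {pt : α}

theorem AB (h : Pt H B A φ pt) : A ≤ B := fun x hx =>
  (h.stab ⟨x, h.le hx⟩).1 (by rw [(h.ker _).2 hx]; rfl)

theorem inv (h : Pt H B A φ pt) (b : B) (x : α) : φ (inclusion h.leB b) x ≠ pt ↔ x ≠ pt := by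
  have h1 : φ (inclusion h.leB b) pt = pt := (h.stab _).2 b.2
  rw [not_iff_not]
  exact ⟨fun e => (φ (inclusion h.leB b)).injective (e.trans h1.symm), fun e => e ▸ h1⟩

/-- The action of the point stabilizer on the other points. -/
def res (h : Pt H B A φ pt) : B →* Perm {x // x ≠ pt} :=
  MonoidHom.mk' (fun b => (φ (inclusion h.leB b)).subtypePerm (h.inv b)) fun a b => by
    ext x
    exact congrArg (fun σ : Perm α => σ x) (by rw [map_mul, map_mul] :
      φ (inclusion h.leB (a * b)) = φ (inclusion h.leB a) * φ (inclusion h.leB b))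

theorem sign_res (h : Pt H B A φ pt) (b : B) :
    Perm.sign (h.res b) = Perm.sign (φ (inclusion h.leB b)) :=
  Perm.sign_subtypePerm _ (h.inv b) fun x hx e => hx (by rw [e]; exact (h.stab _).2 b.2)

theorem card_res (_h : Pt H B A φ pt) : Nat.card {x // x ≠ pt} = Nat.card α - 1 := by
  simp [Nat.card_eq_fintype_card]

theorem lc_res (h : Pt H B A φ pt) : Lc B A h.res := by
  refine ⟨⟨h.AB, fun b => ⟨fun e => (h.ker (inclusion h.leB b)).1 ?_, fun e => ?_⟩⟩, ?_,
    fun σ hσ => ?_⟩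
  · ext x
    by_cases hx : x = pt
    · rw [hx]; exact (h.stab _).2 b.2
    · exact congrArg Subtype.val (congrArg (fun σ : Perm {x // x ≠ pt} => σ ⟨x, hx⟩) e)
  · have := (h.ker (inclusion h.leB b)).2 e
    ext x
    exact congrArg (fun σ : Perm α => σ x) this
  · rw [h.card_res]; have := h.six; omega
  · obtain ⟨y, hy⟩ := h.alt (show Perm.ofSubtype σ ∈ alternatingGroup α by
      rw [Perm.mem_alternatingGroup, Perm.sign_ofSubtype]; exact hσ)
    have h1 : (y : G) ∈ B := (h.stab y).1 (by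
      rw [hy]; exact Perm.ofSubtype_apply_of_not_mem σ (not_not.2 rfl))
    refine ⟨⟨y, h1⟩, ?_⟩
    ext x
    exact (congrArg (fun τ : Perm α => τ x) hy).trans (Perm.ofSubtype_apply_coe σ x)

theorem decomp (h : Pt H B A φ pt) {C : Subgroup G} (hC : alternatingGroup α ≤ im φ C)
    {x : G} (hx : x ∈ H) : ∃ c ∈ C, ∃ b ∈ B, x = c * b := by
  haveI := alternatingGroup.isPretransitive_of_three_le_card (α := α) (by have := h.six; omega)
  obtain ⟨σ, hσ⟩ := MulAction.exists_smul_eq (alternatingGroup α) pt (φ ⟨x, hx⟩ pt)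
  obtain ⟨c, hc, e⟩ := hC σ.2
  refine ⟨c, hc, ((c⁻¹ * ⟨x, hx⟩ : H) : G), (h.stab _).1 ?_, by simp⟩
  rw [map_mul, map_inv, e, Perm.mul_apply, ← hσ]
  exact (σ : Perm α).symm_apply_apply pt

theorem norm_of (h : Pt H B A φ pt) {C N : Subgroup G} (hC : alternatingGroup α ≤ im φ C)
    (h1 : C ≤ normalizer (N : Set G)) (h2 : B ≤ normalizer (N : Set G)) :
    H ≤ normalizer (N : Set G) := fun x hx => by
  obtain ⟨c, hc, b, hb, rfl⟩ := h.decomp hC hx
  exact mul_mem (h1 hc) (h2 hb)

theorem relIndex_lt (h : Pt H B A φ pt) : A.relIndex B < Nat.card (alternatingGroup α) := by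
  rw [← h.lc_res.toKr.card_im le_rfl]
  refine (card_le_card_group _).trans_lt ?_
  rw [Nat.card_perm, h.card_res]
  exact fact_lt_alt h.five

end Pt

end Cfsg.Agent.H4J
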