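import Mathlib
import Cfsg.Agent.BHS.Inv
import Cfsg.Agent.BHS.GLBlk
import Cfsg.Agent.H4J.KnA
import Cfsg.Agent.H4J.IsoB

/-! Blocks normalizing each other. -/

set_option autoImplicit false
set_option linter.unusedSectionVars false
set_option linter.style.haveILetI false

namespace Cfsg.Agent.BHS.Bk

open Subgroup Cfsg Cfsg.Agent.LocalEven Cfsg.Agent.Glaub Cfsg.Agent.Push Cfsg.Agent.H4J Equiv
open scoped commutatorElement MatrixGroups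

variable {G : Type*} [Group G] {p : ℕ} {B B' E F N K T T' W Z Y : Subgroup G} {g : G}

section gen

variable {X : Type*} [AddCommGroup X] {ψ : G → X} {R : Subgroup (Perm X)}

theorem act_comm (h : Sec W Z ψ) {k : G} (h1 : g ∈ 𝐍⟮W⟯) (h2 : g ∈ 𝐍⟮Z⟯) (k1 : k ∈ 𝐍⟮W⟯)
    (k2 : k ∈ 𝐍⟮Z⟯) : act W ψ ⁅g, k⁆ = ⁅act W ψ g, act W ψ k⁆ :=
  map_commutatorElement h.rep ⟨g, h1, h2⟩ ⟨k, k1, k2⟩

theorem norm_im (h : Mdl F W Z ψ R) (h1 : N ≤ 𝐍⟮W⟯) (h2 : N ≤ 𝐍⟮Z⟯) (h3 : F ≤ 𝐍⟮N⟯) {r : Perm X}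
    (hr : r ∈ R) {a : Perm X} (ha : a ∈ h.im N) : r * a * r⁻¹ ∈ h.im N := by
  obtain ⟨f, hf, rfl⟩ := h.onto r hr
  obtain ⟨x, hx, rfl⟩ := (h.mem_im h1 h2).1 ha
  exact (h.mem_im h1 h2).2 ⟨_, conj_mem_of_mem_normalizer (h3 hf) hx,
    h.act_conj (h.nW hf) (h.nZ' hf) (h1 hx) (h2 hx)⟩

theorem nY (E : Subgroup G) : 𝐍⟮E⟯ ≤ 𝐍⟮𝐔⟮p, E⟯ ⊓ 𝐂⟮E⟯⟯ :=
  le_normalizer_inf (norm_U E) (normalizer_le_normalizer_centralizer E)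

variable [Finite G] [hp : Fact p.Prime]

theorem mdlU (h : Blk p B E) (d : Mdl E 𝐖⟮p, E⟯ 𝐙⟮p, E⟯ ψ R) :
    Mdl E 𝐔⟮p, E⟯ (𝐔⟮p, E⟯ ⊓ 𝐂⟮E⟯) ψ R := by
  have := d.sub (U_le_W E) h.W_le_sup (le_normalizer.trans (norm_U E))
  rwa [← inf_assoc, inf_eq_left.2 (U_le_W E)] at this

theorem cent_of_comm (h : Blk p B E) (h1 : K ≤ 𝐍⟮E⟯) (h2 : ⁅𝐔⟮p, E⟯, K⁆ ≤ 𝐂⟮E⟯) :
    K ≤ 𝐂⟮𝐔⟮p, E⟯⟯ :=
  h.cent_U_of h1 (le_centMod.2 ⟨h1.trans (norm_Z E), (commutator_mono h.W_le_sup le_rfl).trans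
    (commutator_sup_left_le (le_inf ((commutator_le_left_of_le_normalizer
      (h1.trans (norm_U E))).trans (U_le_W E)) h2)
      (commutator_le_left_of_le_normalizer (h1.trans (norm_Z E)))
      ((U_le E).trans (le_normalizer.trans (norm_Z E))) le_normalizer)⟩)

theorem memC (h : Blk p B E) (h1 : g ∈ 𝐍⟮E⟯) :
    g ∈ centMod 𝐔⟮p, E⟯ (𝐔⟮p, E⟯ ⊓ 𝐂⟮E⟯) ↔ g ∈ 𝐂⟮𝐔⟮p, E⟯⟯ :=
  ⟨fun e => zpowers_le.1 (cent_of_comm h (zpowers_le.2 h1)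
    ((le_centMod.1 (zpowers_le.2 e)).2.trans inf_le_right)), fun e => cent_le_centMod inf_le_left e⟩

theorem act_one_iff (h : Blk p B E) (d : Sec 𝐔⟮p, E⟯ (𝐔⟮p, E⟯ ⊓ 𝐂⟮E⟯) ψ) (h1 : g ∈ 𝐍⟮E⟯) :
    act 𝐔⟮p, E⟯ ψ g = 1 ↔ g ∈ 𝐂⟮𝐔⟮p, E⟯⟯ :=
  (d.act_eq_one (norm_U E h1) (nY E h1)).trans (memC h h1)

end gen

/-- `F` is covered by `E` modulo the centralizer of `U`. -/
def Cov (E F U : Subgroup G) : Prop := ∀ f ∈ F, ∃ e ∈ E, e⁻¹ * f ∈ 𝐂⟮U⟯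

variable [Finite G] [hp : Fact p.Prime]

section gen2

variable {X : Type*} [AddCommGroup X] {ψ : G → X} {R : Subgroup (Perm X)}

theorem cov_of (h : Blk p B F) (d : Sec 𝐔⟮p, F⟯ (𝐔⟮p, F⟯ ⊓ 𝐂⟮F⟯) ψ) (h1 : N ≤ 𝐍⟮F⟯) (h2 : K ≤ 𝐍⟮F⟯)
    (k : ∀ x ∈ K, ∃ y ∈ N, act 𝐔⟮p, F⟯ ψ y = act 𝐔⟮p, F⟯ ψ x) : Cov N K 𝐔⟮p, F⟯ := fun x hx => by
  obtain ⟨y, hy, e⟩ := k x hx
  exact ⟨y, hy, (memC h (mul_mem (inv_mem (h1 hy)) (h2 hx))).1 ((d.act_eq_iff (norm_U F (h1 hy))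
    (nY F (h1 hy)) (norm_U F (h2 hx)) (nY F (h2 hx))).1 e)⟩

theorem cov_of_res (h : Blk p B E) (d : Mdl E 𝐔⟮p, E⟯ (𝐔⟮p, E⟯ ⊓ 𝐂⟮E⟯) ψ R) (hF : pResOf p F = F)
    (h1 : F ≤ 𝐍⟮E⟯) (k : ∀ x ∈ F, (orderOf x).Coprime p → act 𝐔⟮p, E⟯ ψ x ∈ R) :
    Cov E F 𝐔⟮p, E⟯ := by
  have : F ≤ (R.comap d.rep).map (Subgroup.subtype _) := hF.ge.trans (pResOf_le_iff.2
    fun x hx hc => ⟨⟨x, norm_U E (h1 hx), nY E (h1 hx)⟩, k x hx hc, rfl⟩)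
  refine cov_of h d.toSec le_normalizer h1 fun x hx => ?_
  obtain ⟨y, hy, rfl⟩ := this hx
  exact d.onto _ hy

end gen2

theorem even_of_odd {n : ℕ} {ψ : G → Ev n} (d : Sec W Z ψ) (h3 : 3 ≤ n) (h1 : g ∈ 𝐍⟮W⟯)
    (h2 : g ∈ 𝐍⟮Z⟯) (hc : (orderOf g).Coprime 2) {τ : Perm (Fin n)} (e : act W ψ g = pv τ) :
    τ ∈ alternatingGroup (Fin n) := by
  have k : τ ^ orderOf g = 1 := pv_inj h3 (by
    rw [map_pow, ← e, ← d.act_pow h1 h2, pow_orderOf_eq_one, d.act_one, map_one])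
  have := congrArg Perm.sign k
  rw [map_pow, map_one] at this
  rw [Perm.mem_alternatingGroup]
  rcases Int.units_eq_one_or (Perm.sign τ) with s | s
  · exact s
  · rw [s, (Nat.coprime_two_right.1 hc).neg_one_pow] at this
    exact absurd this (by decide)

theorem covP' (h : Blk p B E) (hP : PerB p E) (hF : pResOf p F = F) (h1 : F ≤ 𝐍⟮E⟯) :
    Cov E F 𝐔⟮p, E⟯ := by
  obtain ⟨rfl, -, n, hn, h3, ψ, d⟩ := hP
  have d' := mdlU h d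
  refine cov_of_res h d' hF h1 fun x hx hc => ?_
  obtain ⟨τ, e⟩ := d'.perm hn h3 (h1 hx) (norm_U E (h1 hx)) (nY E (h1 hx))
  exact ⟨τ, even_of_odd d'.toSec h3 (norm_U E (h1 hx)) (nY E (h1 hx)) hc e, e.symm⟩

theorem alt_three : ∀ τ σ : Perm (Fin 3), Perm.sign τ = 1 → τ ≠ 1 → Perm.sign σ = 1 →
    σ = 1 ∨ σ = τ ∨ σ = τ * τ := by decide

theorem covP (h : Blk p B F) (hP : PerB p F) (h1 : N ≤ 𝐍⟮F⟯) (h2 : F ≤ 𝐍⟮N⟯) (hE : pResOf p E = E)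
    (h3 : E ≤ N) (h4 : ¬ E ≤ 𝐂⟮𝐔⟮p, F⟯⟯) : Cov N F 𝐔⟮p, F⟯ := by
  obtain ⟨rfl, -, n, hn, h5, ψ, d⟩ := hP
  have d' := mdlU h d
  have n1 := h1.trans (norm_U (p := 2) F)
  have n2 := h1.trans (nY (p := 2) F)
  obtain ⟨e, he, hc, hx⟩ : ∃ e ∈ E, (orderOf e).Coprime 2 ∧ e ∉ 𝐂⟮𝐔⟮2, F⟯⟯ := by
    by_contra! k
    exact h4 (hE.ge.trans (pResOf_le_iff.2 k))
  obtain ⟨τ, eτ⟩ := d'.perm hn h5 (h1 (h3 he)) (n1 (h3 he)) (n2 (h3 he))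
  have t1 := even_of_odd d'.toSec h5 (n1 (h3 he)) (n2 (h3 he)) hc eτ
  have t2 : τ ≠ 1 := by
    rintro rfl
    exact hx ((act_one_iff h d'.toSec (h1 (h3 he))).1 (eτ.trans (map_one _)))
  have t3 : τ ∈ (d'.im N).comap pv := (d'.mem_im n1 n2).2 ⟨e, h3 he, eτ⟩
  have k : alternatingGroup (Fin n) ≤ (d'.im N).comap pv := by
    by_cases e3 : n = 3
    · subst e3
      intro σ hσ
      rcases alt_three τ σ t1 t2 hσ with rfl | rfl | rfl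
      exacts [one_mem _, t3, mul_mem t3 t3]
    · have : 5 ≤ n := by obtain ⟨m, rfl⟩ := hn; omega
      refine (bot_or_alt_le (by simpa using this) (le_normalizer_of_cj_le fun σ hσ =>
        cj_le_iff'.2 fun a ha => ?_)).resolve_left fun e => t2 (mem_bot.1 (e.le t3))
      have := norm_im d' n1 n2 h2 (mem_map_of_mem pv hσ) ha
      rwa [← map_inv, ← map_mul, ← map_mul] at this
  refine cov_of h d'.toSec h1 le_normalizer fun x hx => ?_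
  obtain ⟨σ, hσ, e⟩ := d'.mem_perm hx
  rw [e]
  exact (d'.mem_im n1 n2).1 (k hσ)

section lin

variable {L : Type} [Field L] [Fintype L] [CharP L p] {ψ : G → Fin 2 → L}

theorem covL (h : Blk p B E) (d : Mdl E 𝐔⟮p, E⟯ (𝐔⟮p, E⟯ ⊓ 𝐂⟮E⟯) ψ (RL L))
    (h3 : Fintype.card L ≤ 3) (hF : pResOf p F = F) (hc : ⁅F, B'⁆ = F) (h1 : F ≤ 𝐍⟮E⟯)
    (b1 : B' ≤ 𝐍⟮𝐔⟮p, E⟯⟯) (b2 : B' ≤ 𝐍⟮𝐔⟮p, E⟯ ⊓ 𝐂⟮E⟯⟯) : Cov E F 𝐔⟮p, E⟯ := by
  set U := 𝐔⟮p, E⟯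
  set Y := U ⊓ 𝐂⟮E⟯
  have n1 : F ≤ 𝐍⟮U⟯ := h1.trans (norm_U E)
  have n2 : F ≤ 𝐍⟮Y⟯ := h1.trans (nY E)
  have lin : ∀ g ∈ 𝐍⟮U⟯, g ∈ 𝐍⟮Y⟯ → ∀ (c : L) v, act U ψ g (c • v) = c • act U ψ g v :=
    fun g g1 g2 c v => smul_of_card_le h3 (AddMonoidHom.mk' _ (d.act_add g1 g2)) c v
  let δ : ↥(𝐍⟮U⟯ ⊓ 𝐍⟮Y⟯) →* L :=
    { toFun := fun g => dt (act U ψ g e0) (act U ψ g e1)
      map_one' := by
        show dt (act U ψ 1 e0) (act U ψ 1 e1) = 1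
        rw [d.act_one]; simp [dt]
      map_mul' := fun g k => by
        show dt (act U ψ (g * k) e0) (act U ψ (g * k) e1) = _
        rw [d.act_mul g.2.1 g.2.2 k.2.1 k.2.2, Perm.mul_apply, Perm.mul_apply,
          dt_lin _ (d.act_add g.2.1 g.2.2) (lin _ g.2.1 g.2.2)] }
  have k : F ≤ δ.toHomUnits.ker.map (Subgroup.subtype _) := hc.ge.trans (commutator_le.2
    fun f hf b hb => ⟨⁅(⟨f, n1 hf, n2 hf⟩ : ↥(𝐍⟮U⟯ ⊓ 𝐍⟮Y⟯)), ⟨b, b1 hb, b2 hb⟩⁆, by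
      rw [SetLike.mem_coe, MonoidHom.mem_ker, map_commutatorElement,
        commutatorElement_eq_one_iff_mul_comm, mul_comm], rfl⟩)
  refine cov_of_res h d hF h1 fun x hx hc => ?_
  obtain ⟨y, hy, rfl⟩ := k hx
  have e : δ y = 1 := congrArg Units.val hy
  obtain ⟨s, hs⟩ := exists_sl_of_lin _ (d.act_add y.2.1 y.2.2) (lin _ y.2.1 y.2.2) e
  have e' : act U ψ y = mvP s := Equiv.ext hs
  refine ⟨s, mem_comm_of_coprime (p := p) (Nat.Coprime.coprime_dvd_left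
    (orderOf_dvd_of_pow_eq_one (mvP_inj ?_)) hc), e'.symm⟩
  rw [map_pow, ← e', ← d.act_pow y.2.1 y.2.2, map_one]
  exact (congrArg _ (pow_orderOf_eq_one _)).trans d.act_one

theorem qs_dich {S : Type*} [Group S] (h : IsQuasisimple S) (N : Subgroup S) [hN : N.Normal] :
    N ≤ center S ∨ N = ⊤ := by
  haveI := h.2
  rcases (hN.map (QuotientGroup.mk' (center S)) (QuotientGroup.mk'_surjective _)).eq_bot_or_eq_top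
    with e | e
  · left
    rwa [Subgroup.map_eq_bot_iff, QuotientGroup.ker_mk'] at e
  · right
    have e1 : N ⊔ center S = ⊤ := by
      have := congrArg (comap (QuotientGroup.mk' (center S))) e
      rwa [comap_map_eq, QuotientGroup.ker_mk', comap_top] at this
    have e2 : ⁅(⊤ : Subgroup S), ⊤⁆ ≤ N := by
      nth_rewrite 1 [← e1]
      refine commutator_sup_left_le (commutator_le_left _ _) ?_ le_normalizer_of_normal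
        le_normalizer_of_normal
      rw [comm_bot_of_le_cent (fun z hz g _ => mem_center_iff.1 hz g)]
      exact bot_le
    exact top_le_iff.1 (h.1.commutator_eq_top.ge.trans e2)

theorem scalar_or (h : Blk p B F) (d : Mdl F 𝐔⟮p, F⟯ (𝐔⟮p, F⟯ ⊓ 𝐂⟮F⟯) ψ (RL L))
    (h4 : 4 ≤ Fintype.card L) (h1 : E ≤ 𝐍⟮F⟯) (h2 : F ≤ 𝐍⟮E⟯) :
    Cov E F 𝐔⟮p, F⟯ ∨ ∀ e ∈ E, ∃ c : L, ∀ v, act 𝐔⟮p, F⟯ ψ e v = c • v := by
  set U := 𝐔⟮p, F⟯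
  set Y := U ⊓ 𝐂⟮F⟯
  have n1 : E ≤ 𝐍⟮U⟯ := h1.trans (norm_U F)
  have n2 : E ≤ 𝐍⟮Y⟯ := h1.trans (nY F)
  have t := comm_eq_top h4
  have mt : ∀ s : SL(2, L), mvP s ∈ RL L := fun s => mem_map_of_mem _ (t.ge (mem_top s))
  haveI : ((d.im E).comap mvP).Normal := ⟨fun a ha s => by
    have := norm_im d n1 n2 h2 (mt s) ha
    rwa [← map_inv, ← map_mul, ← map_mul] at this⟩
  rcases qs_dich (Cfsg.Agent.GLBlk.qs_sl (Or.inr ⟨rfl, h4⟩)) ((d.im E).comap mvP) with k | k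
  · right
    have c : ⁅RL L, d.im E⁆ ≤ 𝐂⟮RL L⟯ := commutator_le.2 fun r hr a ha => by
      obtain ⟨f, hf, rfl⟩ := d.onto r hr
      obtain ⟨x, hx, rfl⟩ := (d.mem_im n1 n2).1 ha
      rw [← act_comm d.toSec (d.nW hf) (d.nZ' hf) (n1 hx) (n2 hx)]
      have m1 : ⁅f, x⁆ ∈ F := commutator_le_left_of_le_normalizer h1 (commutator_mem_commutator hf hx)
      have m2 : ⁅f, x⁆ ∈ E := commutator_le_right_of_le_normalizer h2 (commutator_mem_commutator hf hx)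
      obtain ⟨s, -, e⟩ := d.mem_lin m1
      have := k ((d.mem_im n1 n2).2 ⟨_, m2, e⟩)
      rw [e]
      rintro _ ⟨s', -, rfl⟩
      rw [← map_mul, ← map_mul, mem_center_iff.1 this s']
    have c2 := Core.three_subgroups c c
    have c3 : ⁅RL L, RL L⁆ = RL L := by
      rw [← map_commutator, t]; exact congrArg _ t |>.trans (by rw [RL, t])
    rw [c3] at c2
    intro e he
    refine d.scalar (by omega) (n1 he) (n2 he) fun f hf => (d.act_eq_one ?_ ?_).1 ?_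
    · exact mul_mem (mul_mem (mul_mem (n1 he) (d.nW hf)) (inv_mem (n1 he))) (inv_mem (d.nW hf))
    · exact mul_mem (mul_mem (mul_mem (n2 he) (d.nZ' hf)) (inv_mem (n2 he))) (inv_mem (d.nZ' hf))
    · rw [act_comm d.toSec (n1 he) (n2 he) (d.nW hf) (d.nZ' hf),
        commutatorElement_eq_one_iff_mul_comm]
      exact c2 (d.mem f hf) _ ((d.mem_im n1 n2).2 ⟨e, he, rfl⟩)
  · left
    refine cov_of h d.toSec h1 le_normalizer fun x hx => ?_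
    obtain ⟨s, -, e⟩ := d.mem_lin hx
    rw [e]
    exact (d.mem_im n1 n2).1 (k.ge (mem_top s))

theorem not_scalar {U : Subgroup G} (h : Blk p B E) (d : Sec U Y ψ) (e1' : U = 𝐔⟮p, E⟯)
    (e2 : Y = U ⊓ 𝐂⟮E⟯) (k : ∀ e ∈ E, ∃ c : L, ∀ v, act U ψ e v = c • v) : False := by
  subst e1' e2
  have n1 : E ≤ 𝐍⟮𝐔⟮p, E⟯⟯ := le_normalizer.trans (norm_U E)
  have n2 := le_normalizer.trans (nY (p := p) E)
  let M : AddSubgroup (Fin 2 → L) := (L ∙ (e0 : Fin 2 → L)).toAddSubgroup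
  have l : d.pre M ≤ 𝐔⟮p, E⟯ := fun u hu => (d.mem_pre.1 hu).1
  have := h.U_le_of (N := d.pre M) (l.trans (U_le_W E)) (le_normalizer_of_cj_le fun e he =>
    cj_le_iff'.2 fun u hu => by
      obtain ⟨c, hc⟩ := k e he
      obtain ⟨u1, u2⟩ := d.mem_pre.1 hu
      refine d.mem_pre.2 ⟨conj_mem_of_mem_normalizer (n1 he) u1, ?_⟩
      rw [← d.act_apply (n1 he) (n2 he) u1, hc]
      exact Submodule.smul_mem _ c u2) fun e => by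
    obtain ⟨u, hu, eu⟩ := d.surj e0
    have := (d.ker u hu).2 (mem_inf.2 ⟨hu, e (d.mem_pre.2 ⟨hu, by
      rw [eu]; exact Submodule.mem_span_singleton_self _⟩)⟩)
    exact e0_ne (eu.symm.trans this)
  obtain ⟨u, hu, eu⟩ := d.surj e1
  have m := (d.mem_pre.1 (this hu)).2
  rw [eu] at m
  obtain ⟨c, hc⟩ := Submodule.mem_span_singleton.1 m
  simpa using congrFun hc 1

theorem trans_lin (d : Mdl F W Z ψ (RL L)) {u v : G} (hu : u ∈ W) (hv : v ∈ W) (u0 : u ∉ Z)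
    (v0 : v ∉ Z) : ∃ g ∈ F, g * u * g⁻¹ * v⁻¹ ∈ Z := by
  obtain ⟨a, ha, e1⟩ := exists_comm_mv (mt (d.ker u hu).1 u0)
  obtain ⟨b, hb, e2⟩ := exists_comm_mv (mt (d.ker v hv).1 v0)
  obtain ⟨g, hg, e⟩ := d.onto_lin (mul_mem hb (inv_mem ha))
  refine ⟨g, hg, (d.eq_iff (conj_mem_of_mem_normalizer (d.nW hg) hu) hv).1 ?_⟩
  rw [← d.act_apply (d.nW hg) (d.nZ' hg) hu, e, mvP_apply, ← e1, ← e2, mv_mul, mv_inv_mv]

end lin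

theorem exists_three (h : Blk p B F) :
    ∃ a ∈ F, ∃ b ∈ F, a ∉ 𝐂⟮𝐔⟮p, F⟯⟯ ∧ b ∉ 𝐂⟮𝐔⟮p, F⟯⟯ ∧ b * a ∉ 𝐂⟮𝐔⟮p, F⟯⟯ := by
  have key : ∀ {X : Type} [AddCommGroup X] {ψ : G → X} {R : Subgroup (Perm X)},
      Mdl F 𝐖⟮p, F⟯ 𝐙⟮p, F⟯ ψ R → (∃ a ∈ R, ∃ b ∈ R, a ≠ 1 ∧ b ≠ 1 ∧ b * a ≠ 1) →
      ∃ a ∈ F, ∃ b ∈ F, a ∉ 𝐂⟮𝐔⟮p, F⟯⟯ ∧ b ∉ 𝐂⟮𝐔⟮p, F⟯⟯ ∧ b * a ∉ 𝐂⟮𝐔⟮p, F⟯⟯ := by
    rintro X _ ψ R d ⟨a, ha, b, hb, k1, k2, k3⟩
    have d' := mdlU h d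
    obtain ⟨x, hx, rfl⟩ := d'.onto a ha
    obtain ⟨y, hy, rfl⟩ := d'.onto b hb
    rw [← d'.act_mul (d'.nW hy) (d'.nZ' hy) (d'.nW hx) (d'.nZ' hx)] at k3
    exact ⟨x, hx, y, hy, mt (act_one_iff h d'.toSec (le_normalizer hx)).2 k1,
      mt (act_one_iff h d'.toSec (le_normalizer hy)).2 k2,
      mt (act_one_iff h d'.toSec (le_normalizer (mul_mem hy hx))).2 k3⟩
  obtain ⟨L, _, _, _, ⟨ψ, d⟩, -⟩ | ⟨-, -, n, hn, h3, ψ, d⟩ := h.kind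
  · obtain ⟨x, hx, e1'⟩ := exists_comm_mv (F := L) (y := e1) (fun e => by simpa using congrFun e 1)
    obtain ⟨y, hy, e2⟩ := exists_comm_mv (F := L) (y := e0 + e1)
      (fun e => by simpa using congrFun e 1)
    refine key d ⟨_, mem_map_of_mem _ hx, _, mem_map_of_mem _ (mul_mem hy (inv_mem hx)),
      fun e => ?_, fun e => ?_, fun e => ?_⟩
    · have := congrArg (fun f : Perm _ => f e0 1) e
      simp [mvP_apply, e1'] at this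
    · have := congrArg (fun f : Perm _ => f (mv x e0) 0) e
      simp only [mvP_apply, mv_mul, mv_inv_mv, Perm.one_apply] at this
      simp [e1', e2] at this
    · rw [← map_mul, inv_mul_cancel_right] at e
      have := congrArg (fun f : Perm _ => f e0 1) e
      simp [mvP_apply, e2] at this
  · let a : Fin n := ⟨0, by omega⟩
    let b : Fin n := ⟨1, by omega⟩
    let c : Fin n := ⟨2, by omega⟩
    have t : (swap a b * swap a c).IsThreeCycle :=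
      Perm.isThreeCycle_swap_mul_swap_same (by simp [a, b]) (by simp [a, c]) (by simp [b, c])
    have m := mem_map_of_mem pv t.mem_alternatingGroup
    have k : ∀ σ : Perm (Fin n), σ.IsThreeCycle → pv σ ≠ 1 := fun σ hσ e =>
      hσ.isCycle.ne_one (pv_inj h3 (e.trans (map_one _).symm))
    exact key d ⟨_, m, _, m, k _ t, k _ t, by rw [← map_mul]; exact k _ t.isThreeCycle_sq⟩

end Cfsg.Agent.BHS.Bk
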