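import Mathlib
import Cfsg.Agent.H4J.BkA

/-! Subnormal blocks are equal or commute. -/

set_option autoImplicit false
set_option linter.unusedSectionVars false
set_option linter.style.haveILetI false

namespace Cfsg.Agent.BHS.Bk

open Subgroup Cfsg Cfsg.Agent.LocalEven Cfsg.Agent.Glaub Cfsg.Agent.Push Cfsg.Agent.H4J Equiv
open scoped commutatorElement MatrixGroups

variable {G : Type*} [Group G] {p : ℕ} {B B' E F N K T T' W Z Y : Subgroup G} {g : G}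
  [Finite G] [hp : Fact p.Prime]

theorem U_le_O (hG : 𝐂⟮pCore p G⟯ ≤ pCore p G) (h : BT p T E) : 𝐔⟮p, E⟯ ≤ pCore p G :=
  (h.U_le_V hG).trans (omegaOneCenter_le _)

theorem U_le_of_V (h : BT p T E) (h0 : Y ≤ OZ p (pCore p G))
    (h1 : E ≤ 𝐍⟮Y⟯) (h2 : ¬ Y ≤ 𝐂⟮E⟯) : 𝐔⟮p, E⟯ ≤ Y :=
  (h.comm_eq_U (elemAb_of_le (elemAb_omegaOneCenter _) h0)
    (h0.trans ((omegaOneCenter_le _).trans h.core_le)) h1 h2).ge.trans
    (commutator_le_left_of_le_normalizer h1)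

theorem U_le_U (hG : 𝐂⟮pCore p G⟯ ≤ pCore p G) (hE : BT p T E) (hF : BT p T' F) (h1 : E ≤ 𝐍⟮F⟯)
    (h2 : ¬ E ≤ 𝐂⟮𝐔⟮p, F⟯⟯) : 𝐔⟮p, E⟯ ≤ 𝐔⟮p, F⟯ :=
  U_le_of_V hE (hF.U_le_V hG) (h1.trans (norm_U F)) fun e => h2 (le_cent_comm e)

theorem Y_le (hG : 𝐂⟮pCore p G⟯ ≤ pCore p G) (hE : BT p T E) (hF : BT p T' F) (h1 : E ≤ 𝐍⟮F⟯)
    (h2 : ¬ 𝐔⟮p, E⟯ ≤ 𝐂⟮F⟯) : 𝐔⟮p, F⟯ ⊓ 𝐂⟮F⟯ ≤ 𝐂⟮E⟯ := by
  by_contra e
  exact h2 ((U_le_of_V hE (inf_le_left.trans (hF.U_le_V hG)) (h1.trans (nY F)) e).trans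
    inf_le_right)

theorem cent_of_centU (hE : pResOf p E = E) (hF : BT p T' F) (h1 : E ≤ 𝐍⟮F⟯)
    (h2 : E ≤ 𝐂⟮𝐔⟮p, F⟯⟯) : E ≤ 𝐂⟮F⟯ := hE.ge.trans (hF.lemY h1 h2)

theorem comm_core_le (hE : BT p T E) (h : K ≤ 𝐂⟮E⟯) : ⁅pCore p G, K⁆ ≤ 𝐂⟮E⟯ :=
  Core.three_subgroups (hE.comm_core.trans ((pCoreOf_le E).trans (le_cent_comm h)))
    ((comm_bot_of_le_cent h).le.trans bot_le)

theorem le_of_cov (hG : 𝐂⟮pCore p G⟯ ≤ pCore p G) (hE : BT p T E) (hF : BT p T' F) (h1 : E ≤ 𝐍⟮F⟯)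
    (h2 : F ≤ 𝐍⟮E⟯) (hU : 𝐔⟮p, E⟯ = 𝐔⟮p, F⟯) (c : Cov E F 𝐔⟮p, E⟯) : F ≤ E := by
  set K := (E ⊔ F) ⊓ 𝐂⟮𝐔⟮p, E⟯⟯
  have n1 : K ≤ 𝐍⟮E⟯ := inf_le_left.trans (sup_le le_normalizer h2)
  have n2 : K ≤ 𝐍⟮F⟯ := inf_le_left.trans (sup_le h1 le_normalizer)
  have c1 := hE.lemY n1 inf_le_right
  have c2 := hF.lemY n2 (hU ▸ inf_le_right)
  have c3 : ⁅pCore p G, pResOf p K⁆ ≤ 𝐂⟮pResOf p K⟯ := le_trans (by
    rw [centralizer_sup']; exact le_inf (comm_core_le hE c1) (comm_core_le hF c2))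
    (Push.cent_anti ((pResOf_le K).trans inf_le_left))
  have c4 := comm_eq_of_res (pResOf_pResOf K) (isPGroup_pCore (p := p) (G := G))
    le_normalizer_of_normal
  rw [comm_bot_of_le_cent c3] at c4
  have pK : IsPGroup p K := pg_of_cent hG (le_cent_comm (le_cent_of_comm_bot c4.symm))
  have l : F ≤ E ⊔ K := fun f hf => by
    obtain ⟨e, he, k⟩ := c f hf
    rw [← mul_inv_cancel_left e f]
    exact mul_mem (mem_sup_left he) (mem_sup_right (mem_inf.2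
      ⟨mul_mem (mem_sup_left (inv_mem he)) (mem_sup_right hf), k⟩))
  exact hF.res.ge.trans ((pResOf_mono l).trans ((pResOf_sup_eq pK n1).trans hE.res).le)

theorem cov_main (hG : 𝐂⟮pCore p G⟯ ≤ pCore p G) (hE : BT p T E) (hF : BT p T' F) (h1 : E ≤ 𝐍⟮F⟯)
    (h2 : F ≤ 𝐍⟮E⟯) (hU : 𝐔⟮p, E⟯ = 𝐔⟮p, F⟯) : Cov E F 𝐔⟮p, E⟯ := by
  have hY : 𝐔⟮p, E⟯ ⊓ 𝐂⟮E⟯ = 𝐔⟮p, F⟯ ⊓ 𝐂⟮F⟯ := le_antisymm
    (le_inf (inf_le_left.trans hU.le) (Y_le hG hF hE h2 (hU ▸ hE.U_nle)))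
    (le_inf (inf_le_left.trans hU.ge) (Y_le hG hE hF h1 (hU ▸ hF.U_nle)))
  obtain ⟨L, _, _, _, ⟨ψ, d⟩, -⟩ | hP := hF.kind
  · have d' := mdlU hF.toBlk d
    by_cases h4 : 4 ≤ Fintype.card L
    · rw [hU]
      exact (scalar_or hF.toBlk d' h4 h1 h2).resolve_right fun k =>
        not_scalar hE.toBlk d'.toSec hU.symm (by rw [← hY, hU]) k
    obtain ⟨L', _, _, _, ⟨ψ', e⟩, -⟩ | hP := hE.kind
    · have e' := mdlU hE.toBlk e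
      have c := e'.card
      rw [hY, hU, d'.card] at c
      simp only [Nat.card_eq_fintype_card, Fintype.card_fun, Fintype.card_fin] at c
      refine covL hE.toBlk e' (by rw [← Nat.pow_left_injective two_ne_zero c]; omega) hF.res hF.cB h2
        ?_ ?_
      · rw [hU]; exact hF.nB.trans (norm_U F)
      · rw [hY]; exact hF.nB.trans (nY F)
    · exact covP' hE.toBlk hP hF.res h2
  · rw [hU]
    exact covP hF.toBlk hP h1 h2 hE.res le_rfl (hU ▸ hE.nle_cent)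

theorem mutual' (hG : 𝐂⟮pCore p G⟯ ≤ pCore p G) (hE : BT p T E) (hF : BT p T' F) (h1 : E ≤ 𝐍⟮F⟯)
    (h2 : F ≤ 𝐍⟮E⟯) : E = F ∨ E ≤ 𝐂⟮F⟯ := by
  by_cases a : E ≤ 𝐂⟮𝐔⟮p, F⟯⟯
  · exact Or.inr (cent_of_centU hE.res hF h1 a)
  by_cases b : F ≤ 𝐂⟮𝐔⟮p, E⟯⟯
  · exact Or.inr (le_cent_comm (cent_of_centU hF.res hE h2 b))
  have hU := le_antisymm (U_le_U hG hE hF h1 a) (U_le_U hG hF hE h2 b)
  exact Or.inl (le_antisymm (le_of_cov hG hF hE h2 h1 hU.symm (cov_main hG hF hE h2 h1 hU.symm))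
    (le_of_cov hG hE hF h1 h2 hU (cov_main hG hE hF h1 h2 hU)))

omit [Finite G] hp in
theorem conj_U {u : G} (hu : u ∈ 𝐔⟮p, E⟯) (g : G) : g * u * g⁻¹ ∈ 𝐔⟮p, cj g E⟯ :=
  cj_U g E ▸ conj_mem_cj hu

omit [Finite G] hp in
theorem conj_U_cent {u : G} (hu : u ∈ 𝐔⟮p, E⟯) (h : cj g E ≤ 𝐂⟮K⟯) : g * u * g⁻¹ ∈ 𝐂⟮K⟯ :=
  h (U_le _ (conj_U hu g))

theorem nm1 (hG : 𝐂⟮pCore p G⟯ ≤ pCore p G) (hE : BT p T E) (hF : BT p T' F) (h1 : E ≤ 𝐍⟮F⟯)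
    (hc : ∀ f ∈ F, cj f E = E ∨ cj f E ≤ 𝐂⟮E⟯) : F ≤ 𝐍⟮E⟯ := by
  intro f hf
  by_contra hn
  have c := (hc f hf).resolve_left fun e => hn (cj_eq_self_iff.1 e)
  have k : f ∉ 𝐍⟮𝐔⟮p, E⟯⟯ := fun e => hE.U_nle (by
    rw [← cj_eq_of_mem_normalizer e, cj_U]; exact (U_le _).trans c)
  have a : ¬ E ≤ 𝐂⟮𝐔⟮p, F⟯⟯ := fun e =>
    hn (centralizer_le_normalizer' _ (le_cent_comm (cent_of_centU hE.res hF h1 e) hf))
  have l := U_le_U hG hE hF h1 a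
  have y := Y_le hG hE hF h1 fun e => k (centralizer_le_normalizer' _ (le_cent_comm e hf))
  obtain ⟨L, _, _, _, ⟨ψ, d⟩, -⟩ | hP := hF.kind
  · have d' := mdlU hF.toBlk d
    obtain ⟨u, hu, u0⟩ := SetLike.not_le_iff_exists.1 hE.U_nle
    have m := conj_U_cent hu c
    have m' := conj_mem_of_mem_normalizer (d'.nW hf) (l hu)
    obtain ⟨g, hg, e⟩ := trans_lin d' (l hu) (mul_mem (l hu) m') (fun e => u0 (y e))
      fun e => u0 ((mul_mem_cancel_right m).1 (y e))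
    rcases hc g hg with e1 | e1
    · have y2 : 𝐔⟮p, F⟯ ⊓ 𝐂⟮F⟯ ≤ 𝐂⟮cj f E⟯ := by
        rw [← cj_centralizer, ← cj_eq_of_mem_normalizer (d'.nZ' hf)]; exact cj_mono f y
      have c' : E ≤ 𝐂⟮cj f E⟯ := le_cent_comm c
      have := (mul_mem_cancel_left (conj_U_cent hu (e1.le.trans c'))).1 (y2 e)
      rw [inv_mem_iff, mul_mem_cancel_left (c' (U_le E hu)), ← cj_centralizer,
        conj_mem_cj_iff] at this
      exact u0 this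
    · have := (mul_mem_cancel_left (conj_U_cent hu e1)).1 (y e)
      rw [inv_mem_iff, mul_mem_cancel_right m] at this
      exact u0 this
  · obtain ⟨n, hn', e⟩ := covP hF.toBlk hP (N := orbJ F E) (orbJ_le fun s hs =>
      cj_le_of_mem (le_normalizer hs) h1) (le_normalizer_orbJ F E) hE.res (le_orbJ F E) a f hf
    have n1 : orbJ F E ≤ 𝐍⟮E⟯ := orbJ_le fun s hs => (hc s hs).elim
      (fun e => e.le.trans le_normalizer) fun e => e.trans (centralizer_le_normalizer' _)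
    exact k ((mul_mem_cancel_left (inv_mem (norm_U E (n1 hn')))).1
      (centralizer_le_normalizer' _ (Push.cent_anti l e)))

theorem nm2 (hG : 𝐂⟮pCore p G⟯ ≤ pCore p G) (hE : BT p T E) (hF : BT p T' F) (h1 : ¬ E ≤ 𝐍⟮F⟯)
    (hc : ∀ f ∈ F, cj f E = E ∨ cj f E ≤ 𝐂⟮E⟯) (hd : ∀ e ∈ E, cj e F = F ∨ cj e F ≤ 𝐂⟮F⟯) :
    F ≤ 𝐍⟮E⟯ := by
  intro f hf
  by_contra hn
  haveI := Transfer.omegaOneCenter_normal (p := p) (pCore p G)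
  have c : ∀ f ∈ F, f ∉ 𝐍⟮E⟯ → cj f E ≤ 𝐂⟮E⟯ := fun f hf hn =>
    (hc f hf).resolve_left fun e => hn (cj_eq_self_iff.1 e)
  obtain ⟨e, he, hm⟩ := SetLike.not_le_iff_exists.1 h1
  have d := (hd e he).resolve_left fun k => hm (cj_eq_self_iff.1 k)
  have a : 𝐔⟮p, E⟯ ⊓ 𝐔⟮p, F⟯ ≤ 𝐂⟮E⟯ := fun x hx => by
    have y1 := conj_mem_of_mem_normalizer (norm_U E (le_normalizer he)) hx.1
    have y2 := conj_U_cent hx.2 d
    have y3 := conj_U_cent y1 (c f hf hn)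
    rw [y2 f hf, mul_inv_cancel_right] at y3
    have := inv_conj_mem_of_mem_normalizer (normalizer_le_normalizer_centralizer E
      (le_normalizer he)) y3
    rwa [show e⁻¹ * (e * x * e⁻¹) * e = x by group] at this
  have cu : ∀ g ∈ F, ∀ u ∈ 𝐔⟮p, E⟯, ⁅g, u⁆ ∈ 𝐔⟮p, F⟯ := fun g hg u hu => by
    rw [← hF.comm_V hG, commutator_comm]; exact commutator_mem_commutator hg (hE.U_le_V hG hu)
  have b : F ⊓ 𝐍⟮E⟯ ≤ 𝐂⟮𝐔⟮p, E⟯⟯ := cent_of_comm hE.toBlk inf_le_right (le_trans (le_inf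
    (commutator_le_left_of_le_normalizer (inf_le_right.trans (norm_U E)))
    ((commutator_mono (hE.U_le_V hG) inf_le_left).trans (hF.comm_V hG).le)) a)
  have ne : ∀ g ∈ F, cj e (cj g E) = cj g E := fun g hg => cj_eq_of_mem_normalizer
    ((hc g hg).elim (fun k => by rw [k]; exact le_normalizer he) fun k =>
      centralizer_le_normalizer' _ (le_cent_comm k he))
  have ne' : ∀ g ∈ F, cj e⁻¹ (cj g E) = cj g E := fun g hg => by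
    rw [cj_eq_iff, inv_inv, ne g hg]
  have two : ∀ x ∈ F, ∀ y ∈ F, x ∉ 𝐍⟮E⟯ → y ∉ 𝐍⟮E⟯ → y * x ∈ 𝐍⟮E⟯ := fun x hx y hy x0 y0 => by
    by_contra z0
    refine hE.U_nle fun u hu => ?_
    have k := d (conj_mem_cj hy) _ (U_le F (cu x hx u hu))
    have k1 : cj (e * y * e⁻¹ * x) E ≤ 𝐂⟮E⟯ := by
      rw [cj_mul, cj_mul, cj_mul, ne' x hx, cj_cj y x, ne _ (mul_mem hy hx)]
      exact c _ (mul_mem hy hx) z0
    have k2 : cj (e * y * e⁻¹) E ≤ 𝐂⟮E⟯ := by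
      rw [cj_mul, cj_mul, cj_eq_of_mem (inv_mem he), ne _ hy]
      exact c _ hy y0
    have k3 := mul_mem (conj_U_cent hu k1) (conj_U_cent (inv_mem hu) k2)
    have k4 : ⁅x, u⁆ ∈ 𝐂⟮E⟯ := by
      convert k3 using 1
      rw [← mul_inv_cancel_right ⁅x, u⁆ (e * y * e⁻¹), k, commutatorElement_def]; group
    exact inv_mem_iff.1 ((mul_mem_cancel_left (conj_U_cent hu (c x hx x0))).1 k4)
  have nn : F ≤ 𝐍⟮F ⊓ 𝐍⟮E⟯⟯ := le_normalizer_of_cj_le fun h hh => cj_le_iff'.2 fun g hg => by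
    refine mem_inf.2 ⟨mul_mem (mul_mem hh hg.1) (inv_mem hh), ?_⟩
    by_cases k : h ∈ 𝐍⟮E⟯
    · exact mul_mem (mul_mem k hg.2) (inv_mem k)
    · exact two _ (inv_mem hh) _ (mul_mem hh hg.1) (by rwa [inv_mem_iff])
        (by rwa [mul_mem_cancel_right (mem_inf.1 hg).2])
  have l : 𝐔⟮p, F⟯ ≤ OZ p (pCore p G) ⊓ 𝐂⟮F ⊓ 𝐍⟮E⟯⟯ := U_le_of_V hF inf_le_left
    (le_normalizer_inf le_normalizer_of_normal (le_normalizer_centralizer nn)) fun k =>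
      hE.U_nle fun u hu => by
        have := conj_U_cent hu (c f hf hn)
        rwa [(k (mem_inf.2 ⟨hE.U_le_V hG hu, le_cent_comm b hu⟩)) f hf, mul_inv_cancel_right] at this
  have l' : ∀ x ∈ F, x ∉ 𝐂⟮𝐔⟮p, F⟯⟯ → x ∉ 𝐍⟮E⟯ := fun x hx x0 k =>
    x0 (le_cent_comm (l.trans inf_le_right) (mem_inf.2 ⟨hx, k⟩))
  obtain ⟨x, hx, y, hy, x0, y0, z0⟩ := exists_three hF.toBlk
  exact l' _ (mul_mem hy hx) z0 (two x hx y hy (l' x hx x0) (l' y hy y0))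

omit hp in
theorem exists_lt (hE : E.IsSubnormal) (h : ¬ F ≤ 𝐍⟮E⟯) :
    ∃ K : Subgroup G, Nat.card K < Nat.card ↥(E ⊔ F) ∧ ∀ f ∈ F, E ⊔ cj f E ≤ K := by
  rcases (hE.subgroupOf (K := E ⊔ F)).lt_normal with e | ⟨N, hN, k1, k2⟩
  · exact (h (le_sup_right.trans ((subgroupOf_eq_top.1 e).trans le_normalizer))).elim
  have l : E ≤ N.map (E ⊔ F).subtype := fun x hx => ⟨⟨x, mem_sup_left hx⟩, k1 hx, rfl⟩
  refine ⟨N.map (E ⊔ F).subtype, ?_, fun f hf => sup_le l (cj_le_iff'.2 fun x hx =>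
    ⟨_, hN.conj_mem _ (k1 (show (⟨x, mem_sup_left hx⟩ : ↥(E ⊔ F)) ∈ E.subgroupOf _ from hx))
      ⟨f, mem_sup_right hf⟩, rfl⟩)⟩
  rw [card_map_of_injective (subtype_injective _)]
  exact (Glaub.card_lt_of_lt k2).trans_eq card_top

theorem sub_main (hG : 𝐂⟮pCore p G⟯ ≤ pCore p G) (n : ℕ) : ∀ (E F T T' : Subgroup G),
    Nat.card ↥(E ⊔ F) = n → BT p T E → BT p T' F → E.IsSubnormal → F.IsSubnormal →
      E = F ∨ E ≤ 𝐂⟮F⟯ := by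
  induction n using Nat.strong_induction_on with
  | _ n ih =>
  have k : ∀ (E F T : Subgroup G), Nat.card ↥(E ⊔ F) = n → BT p T E → E.IsSubnormal →
      ¬ F ≤ 𝐍⟮E⟯ → ∀ f ∈ F, cj f E = E ∨ cj f E ≤ 𝐂⟮E⟯ := fun E F T e hE sE h f hf => by
    obtain ⟨K, k1, k2⟩ := exists_lt sE h
    exact ih _ ((card_le_of_le ((sup_comm _ _).le.trans (k2 f hf))).trans_lt (k1.trans_eq e)) _ _ _ _
      rfl (hE.cj f) hE (isSubnormal_cj f sE) sE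
  intro E F T T' e hE hF sE sF
  have e' : Nat.card ↥(F ⊔ E) = n := by rwa [sup_comm]
  by_cases h1 : E ≤ 𝐍⟮F⟯ <;> by_cases h2 : F ≤ 𝐍⟮E⟯
  · exact mutual' hG hE hF h1 h2
  · exact (h2 (nm1 hG hE hF h1 (k E F T e hE sE h2))).elim
  · exact (h1 (nm1 hG hF hE h2 (k F E T' e' hF sF h1))).elim
  · exact (h2 (nm2 hG hE hF h1 (k E F T e hE sE h2) (k F E T' e' hF sF h1))).elim

end Cfsg.Agent.BHS.Bk
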