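import Mathlib
import Cfsg.Agent.H4J.BkB
import Cfsg.Agent.LocalEven.Trace

/-! Subnormal blocks are normal in the Baumann subgroup. -/

set_option autoImplicit false
set_option linter.unusedSectionVars false
set_option linter.style.haveILetI false

namespace Cfsg.Agent.BHS.Bk

open Subgroup Cfsg Cfsg.Agent.LocalEven Cfsg.Agent.Glaub Cfsg.Agent.Push Cfsg.Agent.H4J Equiv
open scoped commutatorElement MatrixGroups

variable {G : Type*} [Group G] {p : ℕ} {A B B' E F N K P T T' W Z Y : Subgroup G} {g : G}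
  [Finite G] [hp : Fact p.Prime]

theorem count (h : Blk p B E) (hc : ∀ g : G, g ∉ 𝐍⟮E⟯ → cj g E ≤ 𝐂⟮E⟯)
    (hP : ∀ a ∈ A, a ∉ 𝐍⟮E⟯ → cj a 𝐔⟮p, E⟯ ≤ P) :
    2 * (𝐍⟮E⟯.relIndex A - 1) + 1 ≤ 𝐂⟮A⟯.relIndex P := by
  classical
  obtain ⟨v, hv, e, he, k⟩ : ∃ v ∈ 𝐔⟮p, E⟯, ∃ e ∈ E, ⁅v, e⁆ ∉ 𝐂⟮E⟯ := by
    by_contra! k
    exact h.U_nle (h.UU.ge.trans (commutator_le.2 k))
  have n := normalizer_le_normalizer_centralizer E (le_normalizer he)
  have v0 : v ∉ 𝐂⟮E⟯ := fun c => k (by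
    rw [commutatorElement_eq_one_iff_mul_comm.2 (c e he).symm]; exact one_mem _)
  let w : Bool → G := fun b => if b then v⁻¹ else e * v⁻¹ * e⁻¹
  have w1 : ∀ b, w b ∈ 𝐔⟮p, E⟯ := by
    rintro (_ | _)
    exacts [conj_mem_of_mem_normalizer (norm_U E (le_normalizer he)) (inv_mem hv), inv_mem hv]
  have w2 : ∀ b, w b ∉ 𝐂⟮E⟯ := by
    rintro (_ | _) c
    · exact v0 (inv_mem_iff.1 ((mem_normalizer_iff.1 n _).2 c))
    · exact v0 (inv_mem_iff.1 c)
  have w3 : ∀ b b', (w b')⁻¹ * w b ∈ 𝐂⟮E⟯ → b = b' := by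
    have k' : (w true)⁻¹ * w false ∉ 𝐂⟮E⟯ := by
      simpa [w, commutatorElement_def, mul_assoc] using k
    rintro (_ | _) (_ | _) c
    · rfl
    · exact (k' c).elim
    · exact (k' (by simpa using inv_mem c)).elim
    · rfl
  have key : ∀ a ∈ A, a ∉ 𝐍⟮E⟯ → ∀ u ∈ 𝐔⟮p, E⟯, ∀ y ∈ 𝐂⟮E⟯, a⁻¹ * y * a ∈ 𝐂⟮E⟯ →
      (a * u * a⁻¹)⁻¹ * y ∈ 𝐂⟮A⟯ → u ∈ 𝐂⟮E⟯ := fun a ha a0 u hu y hy y1 c => by
    have x := mul_mem (inv_mem (conj_U_cent hu (hc a a0))) hy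
    have e1 : (a * u * a⁻¹)⁻¹ * y = u⁻¹ * (a⁻¹ * y * a) := by
      rw [← inv_mul_cancel_left a ((a * u * a⁻¹)⁻¹ * y), c a ha]; group
    rwa [e1, mul_mem_cancel_right y1, inv_mem_iff] at x
  let Q := A ⧸ 𝐍⟮E⟯.subgroupOf A
  let q0 : Q := QuotientGroup.mk 1
  have o : ∀ q : {q : Q // q ≠ q0}, (q.1.out : G) ∉ 𝐍⟮E⟯ := fun q c => q.2 (by
    rw [← q.1.out_eq]
    exact QuotientGroup.eq.2 (by rw [mul_one]; exact inv_mem c))
  let f : Option ({q : Q // q ≠ q0} × Bool) → P := fun x => match x with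
    | none => 1
    | some x => ⟨x.1.1.out * w x.2 * (x.1.1.out : G)⁻¹,
        hP _ x.1.1.out.2 (o x.1) (conj_mem_cj (w1 x.2))⟩
  have inj : Function.Injective fun x =>
      (QuotientGroup.mk (f x) : P ⧸ 𝐂⟮A⟯.subgroupOf P) := by
    have k0 : ∀ x, (QuotientGroup.mk (f (some x)) : P ⧸ 𝐂⟮A⟯.subgroupOf P) ≠
        QuotientGroup.mk (f none) := fun x c =>
      w2 _ (key _ x.1.1.out.2 (o x.1) _ (w1 x.2) 1 (one_mem _) (by simp)
        (mem_subgroupOf.1 (QuotientGroup.eq.1 c)))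
    rintro (_ | x) (_ | y) c
    · rfl
    · exact (k0 _ c.symm).elim
    · exact (k0 _ c).elim
    obtain ⟨q, b⟩ := x
    obtain ⟨q', b'⟩ := y
    have c' : ((q.1.out : G) * w b * (q.1.out : G)⁻¹)⁻¹ * (q'.1.out * w b' * (q'.1.out : G)⁻¹) ∈
      𝐂⟮A⟯ := mem_subgroupOf.1 (QuotientGroup.eq.1 c)
    by_cases e1 : q = q'
    · subst e1
      rw [w3 b b' (key _ q.1.out.2 (o q) _ (mul_mem (inv_mem (w1 b')) (w1 b)) 1 (one_mem _)
        (by simp) (by convert c' using 1; group))]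
    · refine (w2 b (key _ q.1.out.2 (o q) _ (w1 b) _ (conj_U_cent (w1 b') (hc _ (o q'))) ?_ c')).elim
      have := conj_U_cent (w1 b') (hc ((q.1.out : G)⁻¹ * q'.1.out) fun c => e1 (Subtype.ext (by
        rw [← q.1.out_eq, ← q'.1.out_eq]; exact QuotientGroup.eq.2 c)))
      convert this using 1; group
  have := Nat.card_le_card_of_injective _ inj
  letI iQ : Fintype Q := Fintype.ofFinite Q
  have e1 : Nat.card {q : Q // q ≠ q0} = Nat.card Q - 1 := by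
    rw [Nat.card_eq_fintype_card, Nat.card_eq_fintype_card, Fintype.card_subtype_compl,
      Fintype.card_subtype_eq]
  rw [Finite.card_option, Nat.card_prod, Nat.card_eq_fintype_card (α := Bool), Fintype.card_bool,
    e1, mul_comm] at this
  exact this

theorem maxEA_le (hG : 𝐂⟮pCore p G⟯ ≤ pCore p G) (h : BT p T E)
    (hc : ∀ g : G, g ∉ 𝐍⟮E⟯ → cj g E ≤ 𝐂⟮E⟯) (hT : pCore p G ≤ T') (hA : A ∈ Transfer.MaxEA p T') :
    A ≤ 𝐍⟮E⟯ := by
  haveI := Transfer.omegaOneCenter_normal (p := p) (pCore p G)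
  set V := OZ p (pCore p G)
  set U := 𝐔⟮p, E⟯
  set A₁ := 𝐍⟮E⟯ ⊓ A
  have uv : U ≤ V := h.U_le_V hG
  have eV : IsElementaryAbelian p V := elemAb_omegaOneCenter _
  have dv : orbJ A U ≤ V := orbJ_le fun a _ => cj_le_of_mem_normalizer (le_normalizer_of_normal
    (mem_top a |> fun _ => mem_top a)) uv
  set D := orbJ A U
  set P := D ⊓ centMod A₁ (V ⊓ 𝐂⟮E⟯)
  have vn : V ≤ 𝐍⟮V ⊓ 𝐂⟮E⟯⟯ := (elemAb_le_centralizer eV).trans
    ((Push.cent_anti inf_le_left).trans (centralizer_le_normalizer' _))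
  have cA : A ≤ 𝐂⟮A⟯ := elemAb_le_centralizer hA.2.1
  have h1 := off_relIndex hA (dv.trans ((omegaOneCenter_le _).trans hT)) (elemAb_of_le eV dv)
  have h2 := count (A := A) (P := P) h.toBlk hc fun a ha a0 => le_inf (cj_le_orbJ U ha)
    (le_centMod.2 ⟨((cj_le_orbJ U ha).trans dv).trans vn, le_inf
      ((commutator_mono le_rfl ((cj_le_orbJ U ha).trans dv)).trans (commutator_le_right _ _))
      ((commutator_mono inf_le_left ((cj_U a E).le.trans ((U_le _).trans (hc a a0)))).trans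
        (commutator_le_right_of_le_normalizer (normalizer_le_normalizer_centralizer E)))⟩)
  have h3 := h.noo (A := A₁) inf_le_left (elemAb_of_le hA.2.1 inf_le_right)
  rw [h.relIndex_U (Z_le_centMod inf_le_left), h.relIndex_cent inf_le_left] at h3
  have h4 : (centMod A₁ 𝐙⟮p, E⟯).relIndex U ≤ P.relIndex D := by
    refine le_trans ?_ (relIndex_le_of_le_right (le_orbJ A U) index_ne_zero_of_finite)
    rw [← inf_relIndex_right P]
    refine relIndex_le_of_le_left (le_centMod.2 ⟨inf_le_right.trans ((U_le E).trans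
      (le_normalizer.trans (norm_Z E))), le_inf ((commutator_mono le_rfl inf_le_right).trans
      ((commutator_le_right_of_le_normalizer (inf_le_left.trans (norm_U E))).trans (U_le_W E)))
      ((le_centMod.1 (inf_le_left.trans inf_le_right)).2.trans inf_le_right)⟩)
      index_ne_zero_of_finite
  have h5 : 𝐂⟮A⟯.relIndex P * P.relIndex D = 𝐂⟮A⟯.relIndex D := by
    rw [← inf_relIndex_right 𝐂⟮A⟯ D, ← relIndex_mul_relIndex (𝐂⟮A⟯ ⊓ D) P D (le_inf inf_le_right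
      (le_centMod.2 ⟨(inf_le_right.trans dv).trans vn, (comm_bot_of_le_cent (inf_le_right.trans
        (le_cent_comm inf_le_left))).le.trans bot_le⟩)) inf_le_left, ← inf_relIndex_right 𝐂⟮A⟯ P,
      ← inf_relIndex_right (𝐂⟮A⟯ ⊓ D) P, inf_assoc, inf_eq_right.2 (inf_le_left : P ≤ D)]
  have h6 : 𝐂⟮D⟯.relIndex A ≤ 𝐂⟮U⟯.relIndex A₁ * 𝐍⟮E⟯.relIndex A := by
    rw [← inf_relIndex_right 𝐂⟮U⟯, ← inf_relIndex_right 𝐍⟮E⟯, relIndex_mul_relIndex _ _ _
      inf_le_right inf_le_right]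
    refine relIndex_le_of_le_left (le_cent_comm (orbJ_le fun a ha => ?_)) index_ne_zero_of_finite
    rw [← cj_eq_of_mem_normalizer (le_normalizer_centralizer (le_rfl) (centralizer_le_normalizer' _
      (Push.cent_anti (inf_le_right.trans inf_le_right) (cA ha))))]
    exact cj_mono a (le_cent_comm inf_le_left)
  have r : 0 < 𝐂⟮U⟯.relIndex A₁ := Nat.pos_of_ne_zero index_ne_zero_of_finite
  have m : 0 < 𝐍⟮E⟯.relIndex A := Nat.pos_of_ne_zero index_ne_zero_of_finite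
  have := ((Nat.mul_le_mul h2 (h3.trans h4)).trans (h5.le.trans (h1.trans h6))).trans_eq
    (mul_comm _ _)
  have := Nat.le_of_mul_le_mul_right this r
  exact relIndex_eq_one.1 (by omega)

theorem bm_le_norm (hG : 𝐂⟮pCore p G⟯ ≤ pCore p G) (h : BT p T E)
    (hc : ∀ g : G, g ∉ 𝐍⟮E⟯ → cj g E ≤ 𝐂⟮E⟯) (hT : IsSylowIn p T' ⊤) : Bm p T' ≤ 𝐍⟮E⟯ := by
  have hO : pCore p G ≤ T' := pCoreOf_top.ge.trans hT.pCoreOf_le
  have hJ : Jt p T' ≤ 𝐍⟮E⟯ :=
    Transfer.thompsonSubgroupOf_le_iff.2 fun A hA => maxEA_le hG h hc hO hA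
  obtain ⟨w, hw, w0⟩ := SetLike.not_le_iff_exists.1 (h.exists_fix (hT.pgrp.to_le (jt_le T')) hJ)
  obtain ⟨u, hu, z, hz, rfl⟩ := (mem_sup_iff_of_le_normalizer ((U_le E).trans
    (le_normalizer.trans (norm_Z E)))).1 (h.W_le_sup hw.1)
  intro b hb
  by_contra b0
  have := h.cent_B ((U_le_O hG h).trans hO) hJ hb u (mem_inf.2
    ⟨hu, (mul_mem_cancel_right (Z_le_centMod hJ hz)).1 (mem_inf.1 hw).2⟩)
  have k := conj_U_cent hu (hc b b0)
  rw [← this, mul_inv_cancel_right] at k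
  exact w0 (mul_mem (mem_inf.2 ⟨U_le_W E hu, k⟩) hz)

theorem oz_nle (hG : 𝐂⟮pCore p G⟯ ≤ pCore p G) (hs : E.IsSubnormal)
    (hc : ∀ g : G, g ∉ 𝐍⟮E⟯ → cj g E ≤ 𝐂⟮E⟯) (S S' : Sylow p G)
    (h : OZ p (S' : Subgroup G) ≤ 𝐂⟮E⟯) : OZ p (S : Subgroup G) ≤ 𝐂⟮E⟯ := by
  haveI := Transfer.omegaOneCenter_normal (p := p) (pCore p G)
  set V := OZ p (pCore p G)
  have eV : IsElementaryAbelian p V := elemAb_omegaOneCenter _
  set L := orbJ (S' : Subgroup G) E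
  have nL : (S' : Subgroup G) ≤ 𝐍⟮L⟯ := le_normalizer_orbJ _ _
  have nE : L ≤ 𝐍⟮E⟯ := orbJ_le fun s _ => by
    by_cases k : s ∈ 𝐍⟮E⟯
    · rw [cj_eq_of_mem_normalizer k]; exact le_normalizer
    · exact (hc s k).trans (centralizer_le_normalizer' _)
  have s1 : IsSylowIn p (S' ⊓ L) L := ((isSylowIn_top S').mono (le_sup_left (b := L))
    le_top).inf_of_le_normalizer le_sup_right (sup_le nL le_normalizer)
  have a1 := inf_centralizer_le_centralizer_of_sylow eV.1 (isPGroup_of_elemAb eV)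
    le_normalizer_of_normal s1 S'.isPGroup' le_normalizer_of_normal nL
    (le_normalizer_inf le_normalizer nL) (le_cent_comm (orbJ_le fun s hs => by
      rw [← cj_eq_of_mem_normalizer (le_normalizer_centralizer le_rfl (centralizer_le_normalizer' _
        (le_cent_comm (inf_le_right (a := V)) hs)))]
      exact cj_mono s (le_cent_comm (le_trans (fun x hx => mem_omegaOneCenter.2
        ⟨pCore_le_sylow S' (omegaOneCenter_le _ hx.1), hx.2, eV.2 x hx.1⟩) h))))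
  have a2 := inf_centralizer_le_centralizer_of_sylow eV.1 (isPGroup_of_elemAb eV)
    le_normalizer_of_normal (sylow_inf_subnormal S' hs) s1.pgrp le_normalizer_of_normal
    (inf_le_right.trans nE) (le_normalizer_inf (inf_le_left.trans le_normalizer)
      (inf_le_right.trans nE)) (a1.trans (Push.cent_anti (le_orbJ _ _)))
  obtain ⟨e, he, k⟩ := (sylow_inf_subnormal S hs).conj (sylow_inf_subnormal S' hs)
  intro z hz
  refine (mem_normalizer_iff.1 (normalizer_le_normalizer_centralizer E (le_normalizer he)) z).2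
    (a2 (mem_inf.2 ⟨Normal.conj_mem inferInstance _ (oz_le_oz_core hG (isSylowIn_top S) hz) e, ?_⟩))
  rw [← k, ← cj_centralizer]
  exact conj_mem_cj (Push.cent_anti inf_le_left (mem_omegaOneCenter.1 hz).2.1)

theorem block_of (h : IsBaumannBlock p T E) (hg : g ∈ 𝐍⟮E⟯) (e : cj g (Bm p T) = Bm p T')
    (k : ⁅E, OZ p T'⁆ ≠ ⊥) : IsBaumannBlock p T' E := by
  obtain ⟨h1, h2, h3, -, h4⟩ := h
  refine ⟨h1, by rw [← e, ← cj_eq_of_mem_normalizer hg, ← cj_commutator, h2], h3, k,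
    h4.imp_left ?_⟩
  rintro ⟨L, _, _, n, a1, a2, a3, a4⟩
  refine ⟨L, _, _, n, a1, a2, a3, a4.imp_right fun ⟨b1, b2, b3, b4, b5, b6, b7⟩ =>
    ⟨b1, b2, b3, b4, b5, b6, fun b hb b0 c => ?_⟩⟩
  rw [← e] at hb
  obtain ⟨b, hb', rfl⟩ := mem_cj'.1 hb
  refine b7 b hb' (fun c => b0 (conj_mem_of_mem_normalizer
    (le_normalizer_centralizer (norm_W E) hg) c)) ((cj_le_cj (g := g)).1 ?_)
  rwa [cj_commutator, cj_commutator, cj_zpowers, cj_eq_of_mem_normalizer (norm_Q E hg),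
    cj_eq_of_mem_normalizer (le_normalizer_inf le_rfl (normalizer_le_normalizer_centralizer E) hg)]

theorem cov_norm (hE : BT p T E) (hF : BT p T F) (h2 : F ≤ 𝐍⟮E⟯) : Cov E F 𝐔⟮p, E⟯ := by
  obtain ⟨L, _, _, _, ⟨ψ, d⟩, -⟩ | hP := hE.kind
  · by_cases h4 : 4 ≤ Fintype.card L
    · have n : E ≤ 𝐍⟮𝐍⟮E⟯ ⊓ 𝐂⟮𝐔⟮p, E⟯⟯⟯ := le_normalizer.trans
        (le_normalizer_inf le_normalizer (le_normalizer_centralizer (norm_U E)))
      have : F ≤ E ⊔ 𝐍⟮E⟯ ⊓ 𝐂⟮𝐔⟮p, E⟯⟯ := le_of_comm_eq hF.cB (le_normalizer_sup h2 (h2.trans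
        (le_normalizer_inf le_normalizer (le_normalizer_centralizer (norm_U E))))) fun b hb => by
        obtain ⟨y, -, k⟩ := hE.sl d
        obtain ⟨s, -, hs⟩ := k b hb
        obtain ⟨e, he, e1⟩ := d.onto_lin (g := s) (by rw [comm_eq_top h4]; trivial)
        have n := hE.nB hb
        have n' := mul_mem (inv_mem (le_normalizer he)) n
        rw [← mul_inv_cancel_left e b]
        exact mul_mem (mem_sup_left he) (mem_sup_right (mem_inf.2 ⟨n', (hE.mem_cent_U n').2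
          ((d.act_eq_iff (d.nW he) (d.nZ' he) (norm_W E n) (norm_Z E n)).1 (e1.trans hs.symm))⟩))
      intro f hf
      obtain ⟨e, he, c, hc, rfl⟩ := (mem_sup_iff_of_le_normalizer n).1 (this hf)
      exact ⟨e, he, by rw [inv_mul_cancel_left]; exact hc.2⟩
    · exact covL hE.toBlk (mdlU hE.toBlk d) (by omega) hF.res hF.cB h2 (hE.nB.trans (norm_U E))
        (hE.nB.trans (nY E))
  · exact covP' hE.toBlk hP hF.res h2

theorem le_or_cent (hG : 𝐂⟮pCore p G⟯ ≤ pCore p G) (hE : BT p T E) (hF : BT p T F) (h2 : F ≤ 𝐍⟮E⟯) :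
    F ≤ E ∨ F ≤ 𝐂⟮E⟯ := by
  by_cases b : F ≤ 𝐂⟮𝐔⟮p, E⟯⟯
  · exact Or.inr (cent_of_centU hF.res hE h2 b)
  left
  haveI := Transfer.omegaOneCenter_normal (p := p) (pCore p G)
  have c := cov_norm hE hF h2
  set K := (E ⊔ F) ⊓ 𝐂⟮𝐔⟮p, E⟯⟯
  have n0 : E ⊔ F ≤ 𝐍⟮E⟯ := sup_le le_normalizer h2
  have n1 : K ≤ 𝐍⟮E⟯ := inf_le_left.trans n0
  set Y := ⁅pCore p G, pResOf p K⁆
  have c1 : Y ≤ 𝐂⟮E⟯ := comm_core_le hE (hE.lemY n1 inf_le_right)
  have nY' : ∀ X : Subgroup G, X ≤ 𝐍⟮E⟯ → X ≤ 𝐍⟮E ⊔ F⟯ → X ≤ 𝐍⟮Y⟯ := fun X x1 x2 =>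
    le_normalizer_commutator le_normalizer_of_normal ((le_normalizer_inf x2
      (le_normalizer_centralizer (x1.trans (norm_U E)))).trans (normalizer_le_normalizer_pResOf _))
  have n2 : F ≤ 𝐍⟮Y⟯ := nY' F h2 (le_sup_right.trans le_normalizer)
  have n3 : Bm p T ≤ 𝐍⟮Y⟯ := nY' _ hE.nB (le_normalizer_sup hE.nB hF.nB)
  have c4 := comm_eq_of_res (pResOf_pResOf K) (isPGroup_pCore (p := p) (G := G))
    le_normalizer_of_normal
  have y1 : Y ≤ ⁅Y, F⁆ := c4.ge.trans ((commutator_mono le_rfl ((pResOf_le K).trans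
    inf_le_left)).trans (commutator_sup_right_le ((comm_bot_of_le_cent c1).le.trans bot_le) le_rfl
      ((le_cent_comm ((commutator_le_left_of_le_normalizer n2).trans c1)).trans
        (centralizer_le_normalizer' _)) (right_le_normalizer_commutator _ _)))
  have y2 : Y ≤ pCoreOf p F :=
    y1.trans ((commutator_mono (commutator_le_left _ _) le_rfl).trans hF.comm_core)
  have y3 : Y ⊓ 𝐖⟮p, F⟯ ≤ 𝐙⟮p, F⟯ := le_inf inf_le_right (by
    by_contra k
    exact b (cent_of_comm hE.toBlk h2 (((commutator_mono (hE.U_le_V hG) le_rfl).trans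
      (hF.comm_V hG).le).trans (((hF.U_le_of inf_le_right (le_normalizer_inf n2
        (le_normalizer.trans (norm_W F))) k).trans inf_le_left).trans c1))))
  have y4 : Y ≤ 𝐖⟮p, F⟯ := by
    obtain e | ⟨L, _, _, _, ⟨ψ, d⟩, x⟩ := hF.exc
    · exact y2.trans e.le
    by_contra k
    obtain ⟨ψ', d'⟩ := x.nat
    exact hF.B_nle fun b hb => hF.split d x y2 (d'.irr_lin y2 n2 k) y3 hb (n3 hb)
  have y5 : Y = ⊥ := eq_bot_iff.2 (y1.trans (comm_bot_of_le_cent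
    (((le_inf le_rfl y4).trans y3).trans inf_le_right)).le)
  have pK : IsPGroup p K := pg_of_cent hG (le_cent_comm (le_cent_of_comm_bot y5))
  have l : F ≤ E ⊔ K := fun f hf => by
    obtain ⟨e, he, k⟩ := c f hf
    rw [← mul_inv_cancel_left e f]
    exact mul_mem (mem_sup_left he) (mem_sup_right (mem_inf.2
      ⟨mul_mem (mem_sup_left (inv_mem he)) (mem_sup_right hf), k⟩))
  exact hF.res.ge.trans ((pResOf_mono l).trans ((pResOf_sup_eq pK n1).trans hE.res).le)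

theorem bg_norm (g : G) : g ∈ 𝐍⟮baumannSubgroup p G⟯ := mem_normalizer_of_cj_le (by
  rw [baumannSubgroup, cj_iSup]
  refine iSup_le fun S => ?_
  obtain ⟨S', e⟩ := ((isSylowIn_top S).cj_of_mem (mem_top g)).exists_sylow_top
  rw [cj_bm, ← e]
  exact le_iSup (fun S : Sylow p G => Bm p (S : Subgroup G)) S')

theorem le_bg (S : Sylow p G) (h : ⁅E, Bm p (S : Subgroup G)⁆ = E) : E ≤ baumannSubgroup p G :=
  le_of_comm_eq h (fun g _ => bg_norm g) (le_iSup (fun S : Sylow p G => Bm p (S : Subgroup G)) S)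

theorem main (hG : 𝐂⟮pCore p G⟯ ≤ pCore p G) (S : Sylow p G) (h : IsBaumannBlock p (S : Subgroup G) E)
    (hs : E.IsSubnormal) : E ≤ baumannSubgroup p G ∧ baumannSubgroup p G ≤ 𝐍⟮E⟯ ∧
      (∀ S' : Sylow p G, IsBaumannBlock p (S' : Subgroup G) E) ∧ ∀ F : Subgroup G,
      (∃ S' : Sylow p G, IsBaumannBlock p (S' : Subgroup G) F) → F ≤ E ∨ ⁅F, E⁆ = ⊥ := by
  have hE := bt_of hG (isSylowIn_top S) h
  have hc : ∀ g : G, g ∉ 𝐍⟮E⟯ → cj g E ≤ 𝐂⟮E⟯ := fun g g0 =>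
    (sub_main hG _ _ _ _ _ rfl (hE.cj g) hE (isSubnormal_cj g hs) hs).resolve_left
      fun e => g0 (cj_eq_self_iff.1 e)
  have n : ∀ S' : Sylow p G, Bm p (S' : Subgroup G) ≤ 𝐍⟮E⟯ := fun S' =>
    bm_le_norm hG hE hc (isSylowIn_top S')
  have b : ∀ S' : Sylow p G, IsBaumannBlock p (S' : Subgroup G) E := fun S' => by
    obtain ⟨g, -, e⟩ := (isSylowIn_top S).conj (isSylowIn_top S')
    have e' : cj g (Bm p (S : Subgroup G)) = Bm p (S' : Subgroup G) := by rw [cj_bm, e]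
    obtain ⟨y, hy, k⟩ := hE.wc.exists_conj (n S) (e'.le.trans (n S'))
    exact block_of h hy (k.symm.trans e') fun c => h.2.2.2.1 (comm_bot_of_le_cent (le_cent_comm
      (oz_nle hG hs hc S S' (le_cent_comm (le_cent_of_comm_bot c)))))
  refine ⟨le_bg S h.2.1, iSup_le n, b, ?_⟩
  rintro F ⟨S', hF⟩
  exact (le_or_cent hG (bt_of hG (isSylowIn_top S') (b S')) (bt_of hG (isSylowIn_top S') hF)
    ((le_bg S' hF.2.1).trans (iSup_le n))).imp_right comm_bot_of_le_cent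

end Cfsg.Agent.BHS.Bk
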