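import Mathlib
import Cfsg.Agent.H4J.BkA
import Cfsg.Agent.S0215
import Cfsg.Agent.Core.SylowOf
import Cfsg.Agent.Core.Product

/-! An isolated involution with a square root in a group of odd characteristic. -/

set_option autoImplicit false
set_option linter.unusedSectionVars false
set_option linter.style.haveILetI false

namespace Cfsg.Agent.BHS.Bk

open Subgroup Cfsg Cfsg.Agent.LocalEven Cfsg.Agent.Glaub Cfsg.Agent.Push Cfsg.Agent.H4J Equiv
open scoped commutatorElement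

variable {G : Type*} [Group G] {p : ℕ} {C K M W : Subgroup G} {a e g : G}

theorem exists_sec (W : Subgroup G) : ∃ ψ : G → Additive (Abelianization W), Sec W ⁅W, W⁆ ψ := by
  classical
  refine ⟨fun g => if h : g ∈ W then Additive.ofMul (Abelianization.of ⟨g, h⟩) else 0,
    commutator_le_left_of_le_normalizer le_normalizer, fun u hu v hv => ?_, fun x => ?_,
    fun u hu => ?_⟩
  · simp only [dif_pos hu, dif_pos hv, dif_pos (mul_mem hu hv)]
    rw [← ofMul_mul, ← map_mul]; rfl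
  · obtain ⟨u, hu⟩ := QuotientGroup.mk_surjective (s := commutator W) x.toMul
    exact ⟨u, u.2, by simp only [dif_pos u.2]; exact congrArg Additive.ofMul hu⟩
  · simp only [dif_pos hu]
    rw [ofMul_eq_zero, ← MonoidHom.mem_ker, Abelianization.ker_of, ← map_subtype_commutator]
    exact (mem_map_iff_mem W.subtype_injective (x := ⟨u, hu⟩)).symm

variable [Finite G] [hp : Fact p.Prime]

theorem kill (hG : 𝐂⟮pCore p G⟯ ≤ pCore p G) (h : pResOf p K = K) (c : ⁅pCore p G, K⁆ ≤ 𝐂⟮K⟯) :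
    K = ⊥ := by
  have c4 := comm_eq_of_res h (isPGroup_pCore (p := p) (G := G)) le_normalizer_of_normal
  rw [comm_bot_of_le_cent c] at c4
  exact h.symm.trans (pResOf_eq_bot_of_isPGroup (isPGroup_pCore.to_le
    ((le_cent_comm (le_cent_of_comm_bot c4.symm)).trans hG)))

theorem frob (hG : 𝐂⟮pCore p G⟯ ≤ pCore p G) (h2 : p ≠ 2) (ea : e * e = a) (aa : a * a = 1)
    (fx : ∀ y ∈ pCore p G, y * a = a * y → y * e = e * y) (hM : (Nat.card M).Coprime p)
    (_cM : M ≤ 𝐂⟮M⟯) (oM : ∀ m ∈ M, m * m = 1 → m = 1) (eM : e ∈ 𝐍⟮M⟯)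
    (iM : ∀ m ∈ M, a * m * a⁻¹ = m⁻¹) : M = ⊥ := by
  classical
  have rM := pResOf_eq_self_of_coprime hM
  set W := ⁅pCore p G, M⁆
  have wO : W ≤ pCore p G := commutator_le_left _ _
  have pW : IsPGroup p W := isPGroup_pCore.to_le wO
  have c4 : ⁅W, M⁆ = W := comm_eq_of_res rM isPGroup_pCore le_normalizer_of_normal
  obtain ⟨ψ, d⟩ := exists_sec W
  let N := 𝐍⟮M⟯
  have n1 : N ≤ 𝐍⟮W⟯ := le_normalizer_commutator le_normalizer_of_normal le_rfl
  have n2 : N ≤ 𝐍⟮⁅W, W⁆⟯ := le_normalizer_commutator n1 n1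
  have mN : M ≤ N := le_normalizer
  have aN : a ∈ N := ea ▸ mul_mem eM eM
  have am : ∀ {g k : G}, g ∈ N → k ∈ N → ∀ x, act W ψ (g * k) x = act W ψ g (act W ψ k x) :=
    fun hg hk x => by rw [d.act_mul (n1 hg) (n2 hg) (n1 hk) (n2 hk)]; rfl
  have ad : ∀ {g : G}, g ∈ N → ∀ x y, act W ψ g (x + y) = act W ψ g x + act W ψ g y :=
    fun hg => d.act_add (n1 hg) (n2 hg)
  letI := Fintype.ofFinite M
  let s : Additive (Abelianization W) →+ Additive (Abelianization W) :=
    AddMonoidHom.mk' (fun x => ∑ m : M, act W ψ m x) fun x y => by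
      rw [← Finset.sum_add_distrib]; exact Finset.sum_congr rfl fun m _ => ad (mN m.2) x y
  have s0 : ∀ x, s x = 0 := fun x => by
    obtain ⟨u, hu, rfl⟩ := d.surj x
    suffices k : ⁅W, M⁆ ≤ d.pre s.ker from (d.mem_pre.1 (k (c4.ge hu))).2
    rw [commutator_comm, commutator_le]
    intro m hm w hw
    refine d.mem_pre.2 ⟨mul_mem (conj_mem_of_mem_normalizer (n1 (mN hm)) hw) (inv_mem hw), ?_⟩
    rw [commutatorElement_def, d.comm (n1 (mN hm)) (n2 (mN hm)) hw, AddMonoidHom.mem_ker, map_sub,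
      sub_eq_zero]
    exact Fintype.sum_equiv (Equiv.mulRight ⟨m, hm⟩) _ _ fun k => (am (mN k.2) (mN hm) _).symm
  have f1 : ∀ x, act W ψ a x = x → act W ψ e x = x := fun x hx => by
    obtain ⟨u, hu, rfl⟩ := d.surj x
    have l : ⁅W, W⁆ ≤ W ⊓ centMod (zpowers a) ⁅W, W⁆ := le_inf d.le (le_centMod.2
      ⟨le_normalizer, commutator_le_right_of_le_normalizer (zpowers_le.2 (n2 aN))⟩)
    have mem : ∀ k ∈ W, k ∈ centMod (zpowers a) ⁅W, W⁆ ↔ act W ψ a (ψ k) = ψ k := fun k hk => by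
      rw [d.mem_centMod (zpowers_le.2 (n1 aN)) (zpowers_le.2 (n2 aN)) hk]
      refine ⟨fun h => h a (mem_zpowers a), fun h b hb => ?_⟩
      obtain ⟨n, rfl⟩ := (mem_powers_iff_mem_zpowers.2 hb)
      rw [d.act_pow (n1 aN) (n2 aN)]
      exact Perm.pow_apply_eq_self_of_apply_eq_self h n
    obtain ⟨q, hq, y, hy, c, rfl⟩ := exists_dec h2 aa (pW.to_le d.le) l (n2 aN) (fun k hk => by
      rw [← inv_mem_iff, commutatorElement_inv]
      exact (mem_centMod.1 hk.2).2 a (mem_zpowers a)) (mem_inf.2 ⟨hu, (mem u hu).2 hx⟩)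
    rw [d.mul q (d.le hq) y hy.1, (d.ker q (d.le hq)).2 hq, zero_add,
      d.act_apply (n1 eM) (n2 eM) hy.1, ← fx y (wO hy.1) c, mul_inv_cancel_right]
  have f2 : ∀ x, x + act W ψ a x = act W ψ e x + act W ψ (e * a) x := fun x => by
    rw [am eM aN, ← ad eM, f1]
    rw [ad aN, ← am aN aN, aa, d.act_one, add_comm]; rfl
  have t : ∀ g ∈ N, (∀ m ∈ M, g * m = m * g → m = 1) → ∀ x,
      ∑ m : M, act W ψ m (act W ψ g (act W ψ (m : G)⁻¹ x)) = 0 := fun g hg fg x => by
    let θ : M → M := fun m => ⟨m * (g * (m : G)⁻¹ * g⁻¹), mul_mem m.2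
      (conj_mem_of_mem_normalizer hg (inv_mem m.2))⟩
    have i : Function.Injective θ := fun m k h => by
      have h' : (m : G) * (g * (m : G)⁻¹ * g⁻¹) = k * (g * (k : G)⁻¹ * g⁻¹) := congrArg Subtype.val h
      have := fg ((k : G)⁻¹ * m) (mul_mem (inv_mem k.2) m.2) (by
        rw [show g * ((k : G)⁻¹ * m) = (k : G)⁻¹ * (k * (g * (k : G)⁻¹ * g⁻¹)) * g * m by group, ← h']
        group)
      exact Subtype.ext (inv_mul_eq_one.1 this).symm
    rw [← s0 (act W ψ g x)]
    refine Fintype.sum_bijective θ i.bijective_of_finite _ _ fun m => ?_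
    rw [← am hg (mN (inv_mem m.2)), ← am (mN m.2) (mul_mem hg (mN (inv_mem m.2))),
      ← am (mN (θ m).2) hg]
    congr 2; simp only [θ]; group
  have fa : ∀ m ∈ M, a * m = m * a → m = 1 := fun m hm h => oM m hm (by
    have := iM m hm
    rw [h, mul_inv_cancel_right] at this
    exact mul_eq_one_iff_eq_inv.2 this)
  have fe : ∀ m ∈ M, e * m = m * e → m = 1 := fun m hm h => fa m hm (by
    rw [← ea, mul_assoc, h, ← mul_assoc, h, mul_assoc])
  have fea : ∀ m ∈ M, e * a * m = m * (e * a) → m = 1 := fun m hm h => fa m hm (by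
    have k : e * a * (e * a) = a := by
      rw [← ea] at aa ⊢
      rw [show e * (e * e) * (e * (e * e)) = e * e * (e * e * (e * e)) by group, aa, mul_one]
    rw [← k, mul_assoc, h, ← mul_assoc, h, mul_assoc])
  have z : ∀ x : Additive (Abelianization W), Nat.card M • x = 0 := fun x => by
    have := Finset.sum_congr (s₁ := Finset.univ) rfl fun (m : M) _ =>
      congrArg (act W ψ m) (f2 (act W ψ (m : G)⁻¹ x))
    simp only [ad (mN (Subtype.prop _)), Finset.sum_add_distrib] at this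
    rw [t a aN fa, t e eM fe, t _ (mul_mem eM aN) fea, add_zero, add_zero] at this
    rw [← this, Nat.card_eq_fintype_card, ← Finset.card_univ, ← Finset.sum_const]
    exact Finset.sum_congr rfl fun m _ => by
      rw [← am (mN m.2) (mN (inv_mem m.2)), mul_inv_cancel, d.act_one]; rfl
  have w : ⁅W, W⁆ = W := le_antisymm d.le fun u hu => by
    obtain ⟨k, hk⟩ := isPGroup_iff_mem.1 pW u hu
    have z1 : p ^ k • ψ u = 0 := by rw [← d.pow hu, hk, d.one]
    rw [← d.ker u hu, ← AddMonoid.addOrderOf_eq_one_iff]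
    exact Nat.eq_one_of_dvd_coprimes (hM.pow_right k) (addOrderOf_dvd_of_nsmul_eq_zero (z _))
      (addOrderOf_dvd_of_nsmul_eq_zero z1)
  have w0 : W = ⊥ := (pResOf_eq_self_of_perfect w).symm.trans (pResOf_eq_bot_of_isPGroup pW)
  exact kill hG rM (w0.le.trans bot_le)

omit [Finite G] in
theorem exists_inv_pow {x : G} (n : ℕ) (h : x ^ 2 ^ n = 1) (ne : x ≠ 1) :
    ∃ m : ℕ, x ^ m ≠ 1 ∧ x ^ m * x ^ m = 1 := by
  induction n with
  | zero => exact (ne (by simpa using h)).elim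
  | succ n ih =>
    by_cases k : x ^ 2 ^ n = 1
    · exact ih k
    · exact ⟨_, k, by rw [← pow_add, ← mul_two, ← pow_succ, h]⟩

theorem res_inv (h2 : p ≠ 2) (aa : a * a = 1) : (orderOf a).Coprime p :=
  Nat.Coprime.coprime_dvd_left (orderOf_dvd_of_pow_eq_one (by rw [sq, aa]))
    ((Nat.coprime_primes Nat.prime_two hp.out).2 h2.symm)

theorem res_zp (h : (orderOf a).Coprime p) : pResOf p (zpowers a) = zpowers a :=
  pResOf_eq_self_of_coprime (by rwa [Nat.card_zpowers])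

theorem odd_comm (hG : 𝐂⟮pCore p G⟯ ≤ pCore p G) (h2 : p ≠ 2) (aa : a * a = 1) (aC : a ∈ 𝐍⟮C⟯)
    (pr : ∀ z ∈ C, z * a = a * z → (orderOf z).Coprime p → z ∈ 𝐂⟮⁅pCore p G, zpowers a⁆⟯) :
    Odd (Nat.card ↥⁅C, zpowers a⁆) := by
  by_cases a1 : a = 1
  · rw [a1, zpowers_one_eq_bot, commutator_bot_right, card_bot]; exact odd_one
  have ai : a⁻¹ = a := inv_eq_of_mul_eq_one_right aa
  set H := C ⊔ zpowers a
  let u : H := ⟨a, mem_sup_right (mem_zpowers a)⟩
  have ou : orderOf u = 2 := orderOf_eq_prime (Subtype.ext (by simpa [sq] using aa))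
    fun h => a1 (congrArg Subtype.val h)
  obtain ⟨P, hP⟩ := IsPGroup.exists_le_sylow (p := 2) (P := zpowers u)
    (IsPGroup.of_card (n := 1) (by rw [Nat.card_zpowers, ou]; rfl))
  obtain ⟨N, hN, o, k⟩ := S0215.result P u ou (hP (mem_zpowers u)) fun g hg => by
    obtain ⟨c, hc, b, hb, e⟩ := (mem_sup_iff_of_le_normalizer' (zpowers_le.2 aC)).1 g.2
    have e' : ((g * u * g⁻¹ : H) : G) = c * a * c⁻¹ := by
      obtain ⟨n, rfl⟩ := hb
      simp only [u, coe_mul, coe_inv, ← e]; group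
    by_contra ne
    obtain ⟨n, hn⟩ := P.isPGroup' ⟨_, mul_mem (hP (mem_zpowers u)) hg⟩
    have hn' : (a * (c * a * c⁻¹)) ^ 2 ^ n = 1 := by
      rw [← e']; exact congrArg (fun x : P => ((x : H) : G)) hn
    obtain ⟨m, z1, z2⟩ := exists_inv_pow n hn' fun h => ne (Subtype.ext (by
      rw [e', ← inv_eq_of_mul_eq_one_right h, ai]))
    have bb : c * a * c⁻¹ * (c * a * c⁻¹) = 1 := by
      rw [show c * a * c⁻¹ * (c * a * c⁻¹) = c * (a * a) * c⁻¹ by group, aa]; group
    have xC : a * (c * a * c⁻¹) ∈ C := by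
      have := mul_mem (conj_mem_of_mem_normalizer aC hc) (inv_mem hc)
      rwa [ai, mul_assoc, mul_assoc, ← mul_assoc c] at this
    generalize hb' : c * a * c⁻¹ = b' at z1 z2 bb xC
    have inv : ∀ t : G, t * (a * b') * t⁻¹ = (a * b')⁻¹ → (a * b') ^ m * t = t * (a * b') ^ m :=
      fun t ht => by
        have := congrArg (· ^ m) ht
        simp only [conj_pow, inv_pow, inv_eq_of_mul_eq_one_right z2] at this
        exact (mul_inv_eq_iff_eq_mul.1 this).symm
    have c1 := inv a (by rw [← mul_assoc, aa, one_mul, mul_inv_rev, inv_eq_of_mul_eq_one_right bb])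
    have c2 := inv b' (by rw [mul_inv_rev, ai, inv_eq_of_mul_eq_one_right bb, mul_assoc, mul_assoc,
      bb, mul_one])
    generalize hz : (a * b') ^ m = z at z1 z2 c1 c2
    have zC : z ∈ C := hz ▸ pow_mem xC m
    have oz := res_inv h2 z2
    have p1 := pr z zC c1 oz
    have p2 : z ∈ 𝐂⟮⁅pCore p G, zpowers b'⁆⟯ := by
      have := conj_mem_cj (g := c) (pr (c⁻¹ * z * c) (mul_mem (mul_mem (inv_mem hc) zC) hc) (by
        rw [show a = c⁻¹ * b' * c by rw [← hb']; group]
        rw [show c⁻¹ * z * c * (c⁻¹ * b' * c) = c⁻¹ * (z * b') * c by group, c2]; group)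
        (res_inv h2 (by rw [show c⁻¹ * z * c * (c⁻¹ * z * c) = c⁻¹ * (z * z) * c by group, z2]; group)))
      rwa [cj_centralizer, cj_commutator, cj_eq_of_normal, cj_zpowers, hb',
        show c * (c⁻¹ * z * c) * c⁻¹ = z by group] at this
    have m : ∀ t : G, z * t = t * z → z ∈ 𝐂⟮⁅pCore p G, zpowers t⁆⟯ →
        t ∈ centMod (pCore p G) 𝐂⟮zpowers z⟯ := fun t h1 h3 => zpowers_le.1 (le_centMod.2
      ⟨(zpowers_le.2 (by rw [centralizer_zpowers, mem_centralizer_singleton, h1])).trans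
        le_normalizer, le_cent_comm (zpowers_le.2 h3)⟩)
    have := kill hG (res_zp oz) (le_centMod.1 (zpowers_le.2 (show z ∈ centMod (pCore p G)
      𝐂⟮zpowers z⟯ by rw [← hz]; exact pow_mem (mul_mem (hz ▸ m a c1 p1) (hz ▸ m b' c2 p2)) _))).2
    exact z1 (zpowers_eq_bot.1 this)
  have l : ⁅C, zpowers a⁆ ≤ N.map H.subtype := (le_centMod.1 (zpowers_le.2 (mem_centMod.2
    ⟨mem_normalizer_of_cj_le (cj_le_iff'.2 (by
      rintro _ ⟨x, hx, rfl⟩; exact ⟨_, hN.conj_mem x hx u, rfl⟩)), fun v hv =>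
      mem_map.2 ⟨_, inv_mem (k ⟨v, mem_sup_left hv⟩), by
        simp [u, commutatorElement_def, mul_assoc]⟩⟩))).2
  exact Odd.of_dvd_nat (by rwa [card_map_of_injective H.subtype_injective]) (card_dvd_of_le l)

theorem pg_comm (hG : 𝐂⟮pCore p G⟯ ≤ pCore p G) (h2 : p ≠ 2) (ea : e * e = a) (aa : a * a = 1)
    (eC : e ∈ 𝐍⟮C⟯) (fx : ∀ y ∈ pCore p G, y * a = a * y → y * e = e * y)
    (pr : ∀ z ∈ C, z * a = a * z → (orderOf z).Coprime p → z ∈ 𝐂⟮⁅pCore p G, zpowers a⁆⟯) :
    IsPGroup p ↥⁅C, zpowers a⁆ := by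
  have aC : a ∈ 𝐍⟮C⟯ := ea ▸ mul_mem eC eC
  have o := odd_comm hG h2 aa aC pr
  set R := ⁅C, zpowers a⁆
  have rC : R ≤ C := commutator_le_left_of_le_normalizer (zpowers_le.2 aC)
  have ez : zpowers e ≤ 𝐍⟮zpowers a⟯ := zpowers_le.2 (centralizer_le_normalizer' _ (by
    rw [centralizer_zpowers, mem_centralizer_singleton, ← ea, mul_assoc]))
  have ae : zpowers a ≤ zpowers e := zpowers_le.2 (ea ▸ mul_mem (mem_zpowers e) (mem_zpowers e))
  have eR : zpowers e ≤ 𝐍⟮R⟯ := le_normalizer_commutator (zpowers_le.2 eC) ez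
  have co : (Nat.card (zpowers e)).Coprime (Nat.card R) := by
    rw [Nat.card_zpowers]
    exact Nat.Coprime.coprime_dvd_left (orderOf_dvd_of_pow_eq_one (n := 2 ^ 2) (by
      rw [← aa, ← ea]; simp [pow_succ, mul_assoc])) ((Nat.coprime_two_left.2 o).pow_left 2)
  have sy : ∀ r : ℕ, [Fact r.Prime] → r ≠ p → r ≠ 2 → ¬ r ∣ 𝐂⟮zpowers a⟯.relIndex R :=
    fun r hr rp r2 => by
    obtain ⟨P₁, hP, n1⟩ := Core.exists_invariant_isSylowOf (zpowers e) R eR co (Or.inl inferInstance) r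
    have l : ⁅P₁, zpowers a⁆ ≤ P₁ := commutator_le_left_of_le_normalizer (ae.trans n1)
    have c4 := comm_eq_of_res (res_zp (res_inv r2 aa)) hP.2.1 (ae.trans n1)
    have n2 : zpowers e ≤ 𝐍⟮⁅P₁, zpowers a⁆⟯ := le_normalizer_commutator n1 ez
    have pP := hP.2.1.to_le l
    generalize hPe : ⁅P₁, zpowers a⁆ = P at l c4 n2 pP
    have cp : ∀ X ≤ P, (Nat.card X).Coprime p := fun X hX => by
      obtain ⟨n, e⟩ := (pP.to_le hX).exists_card_eq
      rw [e]; exact ((Nat.coprime_primes hr.out hp.out).2 rp).pow_left n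
    set M := P ⊓ 𝐂⟮P⟯
    have nM : zpowers e ≤ 𝐍⟮M⟯ := le_normalizer_inf n2 (le_normalizer_centralizer n2)
    have z0 : M ⊓ 𝐂⟮zpowers a⟯ = ⊥ := by
      set Z := M ⊓ 𝐂⟮zpowers a⟯
      have zl : Z ≤ P := inf_le_left.trans inf_le_left
      have a1 : ⁅pCore p G, zpowers a⁆ ≤ 𝐂⟮Z⟯ := le_cent_comm fun z hz => pr z
        (rC (hP.1 (l (zl hz)))) (hz.2 a (mem_zpowers a)).symm
        (Nat.Coprime.coprime_dvd_left (orderOf_dvd_natCard Z hz) (cp Z zl))
      have a2 : P ≤ 𝐂⟮Z⟯ := le_cent_comm (inf_le_left.trans inf_le_right)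
      have a3 : P ≤ centMod (pCore p G) 𝐂⟮Z⟯ := le_of_comm_eq c4 (le_normalizer_centMod
        le_normalizer_of_normal (a2.trans le_normalizer)) (le_centMod.2
          ⟨(le_cent_comm inf_le_right).trans le_normalizer, a1⟩)
      exact kill hG (pResOf_eq_self_of_coprime (cp Z zl)) (le_centMod.1 (zl.trans a3)).2
    have m0 : M = ⊥ := frob hG h2 ea aa fx (cp M inf_le_left)
      (inf_le_right.trans (Push.cent_anti inf_le_left))
      (fun m hm h => eq_one_of_coprime_of_mem pP hm.1 (res_inv r2 h)) (zpowers_le.1 nM)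
      fun m hm => by
        have m1 := conj_mem_of_mem_normalizer (nM (ae (mem_zpowers a))) hm
        have : a * m * a⁻¹ * m ∈ M ⊓ 𝐂⟮zpowers a⟯ := mem_inf.2 ⟨mul_mem m1 hm, by
          rw [centralizer_zpowers, mem_centralizer_singleton]
          have := m1.2 m hm.1
          have ai : a⁻¹ = a := inv_eq_of_mul_eq_one_right aa
          rw [ai] at this ⊢
          rw [← this, show m * (a * m * a) * a = m * a * m * (a * a) by group, aa, this,
            show a * (a * m * a * m) = (a * a) * m * a * m by group, aa]; group⟩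
        rw [z0] at this
        exact eq_inv_of_mul_eq_one_left this
    have p0 : P = ⊥ := by
      by_contra ne
      exact inf_centralizer_ne_bot pP pP le_normalizer ne m0
    exact fun hd => hP.2.2 (hd.trans (relIndex_dvd_of_le_left _ (le_cent_of_comm_bot (hPe.trans p0))))
  obtain ⟨S, hS, n1⟩ := Core.exists_invariant_isSylowOf (zpowers e) R eR co (Or.inl inferInstance) p
  have cc : (S.relIndex R).Coprime (𝐂⟮zpowers a⟯.relIndex R) :=
    Nat.coprime_of_dvd fun r hr h1 h3 => by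
      haveI := Fact.mk hr
      refine sy r (by rintro rfl; exact hS.2.2 h1) ?_ h3
      rintro rfl
      exact (Nat.not_even_iff_odd.2 o) (even_iff_two_dvd.2 (h1.trans (index_dvd_card _)))
  have l : ⁅R, zpowers a⁆ ≤ S := commutator_le.2 fun x hx b hb => by
    obtain ⟨s, hs, y, hy, rfl⟩ := Core.exists_mul_of_coprime_relIndex cc x hx
    have := mul_mem hs (conj_mem_of_mem_normalizer (n1 (ae hb)) (inv_mem hs))
    convert this using 1
    rw [commutatorElement_def, mul_assoc s y b, ← hy b hb]; group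
  refine hS.2.1.to_le (le_trans (commutator_le.2 fun c hc b hb => ?_) l)
  obtain ⟨q, hq, y, hy, rfl⟩ := Core.exists_eq_mul_centralizer (zpowers a) C R rC (ae.trans eR)
    (co.coprime_dvd_left (card_dvd_of_le ae)) (Or.inl inferInstance) le_rfl c hc
  convert commutator_mem_commutator hq hb using 1
  rw [commutatorElement_def, commutatorElement_def, mul_assoc q y b, ← hy.2 b hb]; group

end Cfsg.Agent.BHS.Bk
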