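import Mathlib
import Cfsg.Agent.H4J.BkD
import Cfsg.Agent.BHS.SL3

/-! The centralizer of `W_E` normalizes a block. -/

set_option autoImplicit false
set_option linter.unusedSectionVars false
set_option linter.style.haveILetI false

namespace Cfsg.Agent.BHS.Bk

open Subgroup Cfsg Cfsg.Agent.LocalEven Cfsg.Agent.Glaub Cfsg.Agent.Push Cfsg.Agent.H4J Equiv
open scoped commutatorElement MatrixGroups

variable {G : Type*} [Group G] {p : ℕ} {B E T K : Subgroup G} {a e g z : G}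
  [Finite G] [hp : Fact p.Prime] {F : Type} [Field F] [Fintype F] [CharP F p]
  {ψ ψ' : G → Fin 2 → F}

theorem act_sl (x : Exc p F B E) (d' : Mdl E (pCoreOf p E) 𝐖⟮p, E⟯ ψ' (RL F))
    (h1 : g ∈ 𝐍⟮pCoreOf p E⟯) (h2 : g ∈ 𝐂⟮𝐖⟮p, E⟯⟯) : ∃ s, act (pCoreOf p E) ψ' g = mvP s := by
  choose σ hσ eσ using d'.surj
  have cw : ∀ w ∈ 𝐖⟮p, E⟯, ∀ u ∈ pCoreOf p E, w * u = u * w := fun w hw u hu => Q_cent_W E hu w hw
  let b : (Fin 2 → F) → (Fin 2 → F) → G := fun v w => ⁅σ v, σ w⁆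
  have bb : ∀ u ∈ pCoreOf p E, ∀ v ∈ pCoreOf p E, b (ψ' u) (ψ' v) = ⁅u, v⁆ := fun u hu v hv => by
    have k1 := (d'.eq_iff (hσ (ψ' u)) hu).1 (eσ _)
    have k2 := (d'.eq_iff (hσ (ψ' v)) hv).1 (eσ _)
    simp only [b]
    rw [← inv_mul_cancel_right (σ (ψ' u)) u, ← inv_mul_cancel_right (σ (ψ' v)) v]
    generalize σ (ψ' u) * u⁻¹ = w1 at k1
    generalize σ (ψ' v) * v⁻¹ = w2 at k2
    have m := mul_mem (W_le_Q E k2) hv
    rw [commutatorElement_def, mul_inv_rev, mul_assoc w1 u, cw w1 k1 _ (mul_mem hu m),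
      show u * (w2 * v) * w1 * (u⁻¹ * w1⁻¹) = u * (w2 * v) * (w1 * u⁻¹) * w1⁻¹ by group,
      cw w1 k1 _ (inv_mem hu), show u * (w2 * v) * (u⁻¹ * w1) * w1⁻¹ * (w2 * v)⁻¹ =
        u * (w2 * (v * u⁻¹ * v⁻¹)) * w2⁻¹ by group,
      cw w2 k2 _ (mul_mem (mul_mem hv (inv_mem hu)) (inv_mem hv)), commutatorElement_def]
    group
  have inv : ∀ g ∈ 𝐍⟮pCoreOf p E⟯, g ∈ 𝐂⟮𝐙⟮p, E⟯⟯ → ∀ v w, b (act (pCoreOf p E) ψ' g v)
      (act (pCoreOf p E) ψ' g w) = b v w := fun g g1 g2 v w => by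
    have n := normalizer_le_normalizer_omegaOneCenter (p := p) _ g1
    rw [← eσ v, ← eσ w, d'.act_apply g1 n (hσ v), d'.act_apply g1 n (hσ w),
      bb _ (conj_mem_of_mem_normalizer g1 (hσ v)) _ (conj_mem_of_mem_normalizer g1 (hσ w)),
      bb _ (hσ v) _ (hσ w), ← conjugate_commutatorElement, ← g2 _ (x.comm_mem (hσ v) (hσ w)),
      mul_inv_cancel_right]
  have add : ∀ u v w, b u (v + w) = b u v * b u w := fun u v w => by
    conv_lhs => rw [← eσ u, ← eσ v, ← eσ w, ← d'.mul _ (hσ v) _ (hσ w),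
      bb _ (hσ u) _ (mul_mem (hσ v) (hσ w))]
    have := cw _ (x.comm_mem (hσ u) (hσ w)).1 _ (hσ v)
    simp only [b]
    rw [show ⁅σ u, σ v * σ w⁆ = ⁅σ u, σ v⁆ * (σ v * ⁅σ u, σ w⁆) * (σ v)⁻¹ by
      simp only [commutatorElement_def]; group, ← this]
    group
  have fm := form_eq b add (fun y => by
      rw [← d'.one, ← eσ y, bb _ (one_mem _) _ (hσ y), commutatorElement_one_left])
    (fun y => commutatorElement_self _) fun s hs v w => by
      obtain ⟨e, he, k⟩ := d'.onto_lin hs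
      have := inv e (d'.nW he) (le_cent_comm inf_le_right he) v w
      rwa [k] at this
  let β : Multiplicative F →* G := MonoidHom.mk' (fun c => b e0 (c.toAdd • e1)) fun c c' => by
    rw [toAdd_mul, add_smul, add]
  have r : 𝐙⟮p, E⟯ ≤ β.range := x.comm.ge.trans (commutator_le.2 fun u hu v hv =>
    ⟨Multiplicative.ofAdd (dt (ψ' u) (ψ' v)), by rw [← bb u hu v hv, fm]; rfl⟩)
  have i : Function.Injective β := by
    have c := card_le_of_le r
    rw [x.card] at c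
    have : Function.Bijective β.rangeRestrict := (Nat.bijective_iff_surjective_and_card _).2
      ⟨β.rangeRestrict_surjective, le_antisymm (by simpa using c)
        (Nat.card_le_card_of_surjective _ β.rangeRestrict_surjective)⟩
    exact fun c c' e => this.1 (Subtype.ext e)
  have n := normalizer_le_normalizer_omegaOneCenter (p := p) _ h1
  obtain ⟨s, hs⟩ := exists_sl_of_dt _ (d'.act_add h1 n) fun u v => by
    have := inv g h1 (Push.cent_anti inf_le_left h2) u v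
    rw [fm, fm u v] at this
    exact congrArg Multiplicative.toAdd (i (a₁ := Multiplicative.ofAdd _)
      (a₂ := Multiplicative.ofAdd _) this)
  exact ⟨s, Equiv.ext hs⟩

theorem no_inv (h : BT p T E) (d : Mdl E 𝐖⟮p, E⟯ 𝐙⟮p, E⟯ ψ (RL F)) (x : Exc p F (Bm p T) E)
    (d' : Mdl E (pCoreOf p E) 𝐖⟮p, E⟯ ψ' (RL F)) (h1 : z ∈ 𝐍⟮pCoreOf p E⟯) (h2 : z ∈ 𝐂⟮𝐖⟮p, E⟯⟯)
    (z1 : z ∈ 𝐍⟮Bm p T⟯) (z2 : (orderOf z).Coprime p)
    (k : act (pCoreOf p E) ψ' z = mvP (-1)) : False := by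
  have n := normalizer_le_normalizer_omegaOneCenter (p := p) _ h1
  obtain ⟨b, hb, b1, b2⟩ := exists_cent_of_coprime h.pB z1 z2 (K := 𝐂⟮𝐔⟮p, E⟯⟯)
    ((commutator_mono le_rfl (zpowers_le.2 (Push.cent_anti (U_le_W E) h2))).trans
      (commutator_le_right_of_le_normalizer (le_normalizer_centralizer (h.nB.trans (norm_U E)))))
    h.B_nle
  have nz : pCoreOf p E ≤ 𝐍⟮𝐙⟮p, E⟯⟯ := (pCoreOf_le E).trans (le_normalizer.trans (norm_Z E))
  have w3 : ∀ w ∈ 𝐖⟮p, E⟯, w * w * w = 1 := fun w hw => by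
    have := (mem_omegaOneCenter.1 hw).2.2
    rwa [x.three, pow_three'] at this
  let X : Subgroup G :=
    { carrier := {y | y ∈ pCoreOf p E ∧ z * y * z⁻¹ * y ∈ 𝐙⟮p, E⟯}
      mul_mem' := by
        rintro y w ⟨hy, k1⟩ ⟨hw, k2⟩
        refine ⟨mul_mem hy hw, ?_⟩
        have := mul_mem (mul_mem k1 (x.comm_mem (inv_mem hy) (conj_mem_of_mem_normalizer h1 hw))) k2
        convert this using 1
        simp only [commutatorElement_def]; group
      one_mem' := ⟨one_mem _, by simp⟩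
      inv_mem' := by
        rintro y ⟨hy, k1⟩
        refine ⟨inv_mem hy, ?_⟩
        have := inv_mem (conj_mem_of_mem_normalizer (nz hy) k1)
        convert this using 1
        group }
  have xq : X ≤ pCoreOf p E := fun y hy => hy.1
  refine b1 (h.split d x xq (fun u hu => ?_) ?_ hb (mem_normalizer_of_cj_le (cj_le_iff'.2 ?_)))
  · have m := conj_mem_of_mem_normalizer h1 hu
    have w : z * u * z⁻¹ * u ∈ 𝐖⟮p, E⟯ := by
      rw [← d'.ker _ (mul_mem m hu), d'.mul _ m _ hu, ← d'.act_apply h1 n hu, k, mvP_apply,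
        mv_neg_one, neg_add_cancel]
    generalize hw : z * u * z⁻¹ * u = w0 at w
    rw [← mul_inv_cancel_right u w0]
    refine mul_mem (mem_sup_left (show u * w0 ∈ X from ⟨mul_mem hu (W_le_Q E w), ?_⟩))
      (mem_sup_right (inv_mem w))
    rw [show z * (u * w0) * z⁻¹ * (u * w0) = z * u * z⁻¹ * (z * w0 * z⁻¹ * u) * w0 by group,
      ← h2 w0 w, mul_inv_cancel_right, Q_cent_W E hu w0 w, ← mul_assoc, hw, w3 w0 w]
    exact one_mem _
  · rintro y ⟨⟨-, k1⟩, k2⟩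
    rw [← h2 y k2, mul_inv_cancel_right] at k1
    have := mul_mem k1 k1
    rwa [← mul_assoc, w3 y k2, one_mul] at this
  · rintro y ⟨hy, k1⟩
    refine ⟨conj_mem_of_mem_normalizer (norm_Q E (h.nB hb)) hy, ?_⟩
    have := conj_mem_of_mem_normalizer (norm_Z E (h.nB hb)) k1
    convert this using 1
    have e : z = b * z * b⁻¹ := by rw [b2]; group
    conv_lhs => rw [e]
    group

theorem cent_QW (h : BT p T E) (d : Mdl E 𝐖⟮p, E⟯ 𝐙⟮p, E⟯ ψ (RL F)) (x : Exc p F (Bm p T) E) :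
    𝐍⟮pCoreOf p E⟯ ⊓ 𝐂⟮𝐖⟮p, E⟯⟯ ≤ centMod (pCoreOf p E) 𝐖⟮p, E⟯ := by
  obtain ⟨ψ', d'⟩ := x.nat
  have h2 : p ≠ 2 := by rw [x.three]; decide
  set D := 𝐍⟮pCoreOf p E⟯ ⊓ 𝐂⟮𝐖⟮p, E⟯⟯
  have n1 : D ≤ 𝐍⟮pCoreOf p E⟯ := inf_le_left
  have n2 : D ≤ 𝐍⟮𝐖⟮p, E⟯⟯ := inf_le_right.trans (centralizer_le_normalizer' _)
  have nD : 𝐍⟮E⟯ ≤ 𝐍⟮D⟯ := le_normalizer_inf ((norm_Q E).trans le_normalizer)
    (le_normalizer_centralizer (norm_W E))
  by_cases N0 : (d'.im D).comap mvP = ⊥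
  · intro g hg
    obtain ⟨s, hs⟩ := act_sl x d' hg.1 hg.2
    have : s = 1 := mem_bot.1 (N0.le ((d'.mem_im n1 n2).2 ⟨g, hg, hs⟩))
    exact (d'.act_eq_one (n1 hg) (n2 hg)).1 (by rw [hs, this, map_one])
  exfalso
  obtain ⟨g, hg, k⟩ := (d'.mem_im n1 n2).1 (neg_one_mem_of_normal h2 _ (fun s hs n hn => by
    have := norm_im d' n1 n2 (le_normalizer.trans nD) (mem_map_of_mem mvP hs) hn
    rwa [← map_inv, ← map_mul, ← map_mul] at this) N0)
  set D₀ := D ⊓ centMod (pCoreOf p E) 𝐖⟮p, E⟯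
  have nB : Bm p T ≤ 𝐍⟮D₀⟯ := h.nB.trans
    (le_normalizer_inf nD (le_normalizer_centMod (norm_Q E) (norm_W E)))
  have ng : D ≤ 𝐍⟮D₀⟯ := le_normalizer_inf le_normalizer (le_normalizer_centMod n1 n2)
  have l : D₀ ⊔ zpowers g ≤ D := sup_le inf_le_left (zpowers_le.2 hg)
  obtain ⟨z, hz, z1, z2, j, z3⟩ := exists_norm_coprime h.wc (le_sup_left (b := zpowers g)) nB
    (l.trans ng) (commutator_sup_left_le (commutator_le_left_of_le_normalizer nB) (by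
      rw [commutator_comm]
      refine (le_centMod.1 (zpowers_le.2 (mem_centMod.2 ⟨ng hg, fun b hb => ?_⟩))).2
      have n := h.nB hb
      have m : ⁅b, g⁆ ∈ D := mul_mem (conj_mem_of_mem_normalizer (nD n) hg) (inv_mem hg)
      refine mem_inf.2 ⟨m, (d'.act_eq_one (n1 m) (n2 m)).1 ?_⟩
      rw [act_comm d'.toSec (norm_Q E n) (norm_W E n) (n1 hg) (n2 hg), k,
        commutatorElement_eq_one_iff_mul_comm]
      exact Equiv.ext fun v => by
        rw [Perm.mul_apply, Perm.mul_apply, mvP_apply, mvP_apply, mv_neg_one, mv_neg_one,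
          d'.act_neg (norm_Q E n) (norm_W E n)]) le_normalizer (zpowers_le.2 (ng hg)))
    (mem_sup_right (mem_zpowers g))
  have m := pow_mem hg (p ^ j)
  refine no_inv h d x d' (n1 (l hz)) (l hz).2 z1 z2 ?_
  rw [← (d'.act_eq_iff (n1 m) (n2 m) (n1 (l hz)) (n2 (l hz))).2 z3.2, d'.act_pow (n1 hg) (n2 hg), k,
    ← map_pow, ((hp.out.odd_of_ne_two h2).pow).neg_one_pow]

theorem norm_of_nQ (hG : 𝐂⟮pCore p G⟯ ≤ pCore p G) (h : BT p T E)
    (d : Mdl E 𝐖⟮p, E⟯ 𝐙⟮p, E⟯ ψ (RL F)) (x : Exc p F (Bm p T) E) :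
    𝐍⟮pCoreOf p E⟯ ⊓ 𝐂⟮𝐔⟮p, E⟯⟯ ≤ 𝐍⟮E⟯ := by
  set D := 𝐍⟮pCoreOf p E⟯ ⊓ 𝐂⟮𝐔⟮p, E⟯⟯
  have nD : 𝐍⟮E⟯ ≤ 𝐍⟮D⟯ := le_normalizer_inf ((norm_Q E).trans le_normalizer)
    (le_normalizer_centralizer (norm_U E))
  have l : ⁅D, E⁆ ≤ D := commutator_le_left_of_le_normalizer (le_normalizer.trans nD)
  have k : ∀ X : Subgroup G, E ≤ X → D ≤ 𝐍⟮X⟯ → ⁅D, E⁆ ≤ X := fun X x1 x2 =>
    (commutator_mono le_rfl x1).trans (commutator_le_right_of_le_normalizer x2)
  have nZ : D ≤ 𝐍⟮𝐙⟮p, E⟯⟯ := by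
    rw [← x.comm]; exact le_normalizer_commutator inf_le_left inf_le_left
  have c1 := k _ (le_cent_comm (inf_le_right (a := 𝐖⟮p, E⟯))) (le_normalizer_centralizer nZ)
  have c2 : ⁅D, E⁆ ≤ 𝐂⟮𝐖⟮p, E⟯⟯ := le_trans (by
    rw [centralizer_sup']; exact le_inf (l.trans inf_le_right) c1) (Push.cent_anti h.W_le_sup)
  have c3 := (le_inf (l.trans inf_le_left) c2).trans (cent_QW h d x)
  have c4 := k (centMod (pCore p G) (pCoreOf p E)) (le_centMod.2
    ⟨le_normalizer.trans (norm_Q E), h.comm_core⟩)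
    (le_normalizer_centMod le_normalizer_of_normal inf_le_left)
  have r := pResOf_le (p := p) ⁅D, E⁆
  exact h.fin (h.nB.trans nD) (pg_of_cent hG (pResOf_le_centralizer_of_section
    (isPGroup_pCoreOf E) (pResOf_le_centralizer_of_section (pg_W E) (r.trans c2)
      (le_centMod.1 (r.trans c3)).2) (le_centMod.1 (r.trans c4)).2))

theorem exists_root (h : Blk p B E) (d : Mdl E 𝐖⟮p, E⟯ 𝐙⟮p, E⟯ ψ (RL F)) (h2 : p ≠ 2) :
    ∃ e ∈ E, (orderOf e).Coprime p ∧ e * e * (e * e) = 1 ∧ act 𝐖⟮p, E⟯ ψ (e * e) = mvP (-1) := by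
  obtain ⟨e, he, k⟩ := d.onto_lin (jj_mem (p := p) h2)
  obtain ⟨n, hn⟩ := exists_coprime_pow (p := p) e
  have m := pow_mem he (p ^ n)
  have m2 := mul_mem m m
  have a : act 𝐖⟮p, E⟯ ψ (e ^ p ^ n * e ^ p ^ n) = mvP (-1) := by
    rw [d.act_mul (d.nW m) (d.nZ' m) (d.nW m) (d.nZ' m), d.act_pow (d.nW he) (d.nZ' he), k,
      ← map_pow, ← map_mul, ← (Commute.refl _).mul_pow, jj_sq,
      ((hp.out.odd_of_ne_two h2).pow).neg_one_pow]
  refine ⟨_, m, hn, eq_one_of_coprime_of_mem (isPGroup_pCoreOf E) (h.ker (mem_inf.2 ⟨mul_mem m2 m2,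
    (d.act_eq_one (d.nW (mul_mem m2 m2)) (d.nZ' (mul_mem m2 m2))).1 ?_⟩)) ?_, a⟩
  · rw [d.act_mul (d.nW m2) (d.nZ' m2) (d.nW m2) (d.nZ' m2), a, ← map_mul]; simp
  · rw [← sq, ← sq, ← pow_mul]; exact Nat.Coprime.coprime_dvd_left (orderOf_pow_dvd _) hn

theorem cent_le_norm (hG : 𝐂⟮pCore p G⟯ ≤ pCore p G) (h : BT p T E) : 𝐂⟮𝐔⟮p, E⟯⟯ ≤ 𝐍⟮E⟯ := by
  by_cases hc : ⁅pCore p G, E⁆ ≤ 𝐖⟮p, E⟯
  · exact h.easy hG hc
  obtain e | ⟨F, _, _, _, ⟨ψ, d⟩, x⟩ := h.exc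
  · exact (hc (h.comm_core.trans e.le)).elim
  obtain ⟨ψ', d'⟩ := x.nat
  have h2 : p ≠ 2 := by rw [x.three]; decide
  have q1 : pCoreOf p E ≤ pCore p G ⊔ 𝐖⟮p, E⟯ := (d'.irr_lin h.comm_core
    (right_le_normalizer_commutator _ _) hc).trans (sup_le_sup_right (commutator_le_left _ _) _)
  have q2 : 𝐙⟮p, E⟯ ≤ pCore p G := x.comm.ge.trans ((commutator_mono le_rfl q1).trans
    (commutator_sup_right_le (commutator_le_right _ _)
      ((comm_bot_of_le_cent (Q_cent_W E)).le.trans bot_le) le_normalizer_of_normal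
      le_normalizer_of_normal))
  have q3 : pCoreOf p E ≤ pCore p G := q1.trans (sup_le le_rfl (h.W_le_sup.trans
    (sup_le ((h.U_le_V hG).trans (omegaOneCenter_le _)) q2)))
  obtain ⟨e, he, oe, aa, k⟩ := exists_root h.toBlk d h2
  generalize ea : e * e = a at aa k
  have ha : a ∈ E := ea ▸ mul_mem he he
  have za := zpowers_le.2 ha
  have k' := h.invQ d d' h2 ha aa k
  have fQ : pCoreOf p E ⊓ 𝐂⟮zpowers a⟯ ≤ 𝐙⟮p, E⟯ := fun u hu => by
    have c : a * u * a⁻¹ * u⁻¹ = 1 := by rw [hu.2 a (mem_zpowers a)]; group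
    exact d.mem_of_neg h2 (d.nW ha) (d.nZ' ha) k (d'.mem_of_neg h2 (d'.nW ha) (d'.nZ' ha) k' hu.1
      (c ▸ one_mem _)) (c ▸ one_mem _)
  have q4 : pCoreOf p E ≤ ⁅pCoreOf p E, zpowers a⁆ ⊔ 𝐙⟮p, E⟯ :=
    (Core.commutator_sup_centralizer (zpowers a) _ (za.trans d'.nW)
      (coprime_of_sq h2 aa (isPGroup_pCoreOf E)) (Or.inl inferInstance)).ge.trans
      (sup_le_sup_left fQ _)
  have q5 : 𝐙⟮p, E⟯ ≤ ⁅pCoreOf p E, zpowers a⁆ := x.comm.ge.trans ((commutator_mono le_rfl q4).trans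
    (commutator_sup_right_le (commutator_le_right_of_le_normalizer
      (left_le_normalizer_commutator _ _))
      ((comm_bot_of_le_cent ((Q_cent_W E).trans (Push.cent_anti inf_le_left))).le.trans bot_le)
      le_normalizer (inf_le_left.trans ((W_le_Q E).trans (left_le_normalizer_commutator _ _)))))
  have q6 : ⁅pCore p G, zpowers a⁆ = pCoreOf p E := le_antisymm
    ((commutator_mono le_rfl za).trans h.comm_core)
    ((q4.trans (sup_le le_rfl q5)).trans (commutator_mono q3 le_rfl))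
  have nE : ∀ z ∈ 𝐂⟮𝐔⟮p, E⟯⟯, z * a = a * z → z ∈ 𝐍⟮E⟯ := fun z hz c =>
    norm_of_nQ hG h d x (mem_inf.2 ⟨by
      rw [← q6]
      exact normalizer_inf_le_normalizer_commutator _ _ (mem_inf.2 ⟨le_normalizer_of_normal
        (mem_zpowers z), centralizer_le_normalizer' _ (by
          rw [centralizer_zpowers, mem_centralizer_singleton, c])⟩), hz⟩)
  have nC : 𝐍⟮E⟯ ≤ 𝐍⟮𝐂⟮𝐔⟮p, E⟯⟯⟯ := le_normalizer_centralizer (norm_U E)
  have pg := pg_comm hG h2 ea aa (nC (le_normalizer he)) (fun y hy c => by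
      have ce : zpowers e ≤ 𝐂⟮zpowers a⟯ := zpowers_le.2 (by
        rw [centralizer_zpowers, mem_centralizer_singleton, ← ea, mul_assoc])
      have := pResOf_le_centralizer_of_section (V := pCore p G ⊓ 𝐂⟮zpowers a⟯) (D := zpowers e)
        ((pg_W (p := p) E).to_le (inf_le_left (b := 𝐂⟮E⟯)))
        ((pResOf_le _).trans ((zpowers_le.2 he).trans (le_cent_comm inf_le_right)))
        (le_trans (le_inf ((commutator_mono inf_le_left ((pResOf_le _).trans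
          (zpowers_le.2 he))).trans h.comm_core) ((commutator_mono inf_le_right
            ((pResOf_le _).trans ce)).trans (commutator_le_left_of_le_normalizer le_normalizer))) fQ)
      exact this (mem_pResOf (mem_zpowers e) oe) y (mem_inf.2 ⟨hy, by
          rw [centralizer_zpowers, mem_centralizer_singleton, c]⟩))
    fun z hz c o => by
      rw [q6]
      exact Push.cent_anti (pCoreOf_le E) (h.lemY (zpowers_le.2 (nE z hz c)) (zpowers_le.2 hz)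
        (mem_pResOf (mem_zpowers z) o))
  have l : ⁅𝐂⟮𝐔⟮p, E⟯⟯, zpowers a⁆ ≤ pCoreOf p 𝐂⟮𝐔⟮p, E⟯⟯ := le_pCoreOf
    (commutator_le_left_of_le_normalizer (za.trans (le_normalizer.trans nC)))
    (left_le_normalizer_commutator _ _) pg
  have nP := nC.trans (normalizer_le_normalizer_pCoreOf (p := p) _)
  intro c hc'
  obtain ⟨q, hq, y, hy, c1, rfl⟩ := exists_dec h2 aa (isPGroup_pCoreOf _) (pCoreOf_le _)
    (nP (le_normalizer ha)) (fun k hk => l (commutator_mem_commutator hk (mem_zpowers a))) hc'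
  exact mul_mem (h.le_norm (isPGroup_pCoreOf _) (h.nB.trans nP) (le_normalizer.trans nP) hq)
    (nE y hy c1)

end Cfsg.Agent.BHS.Bk
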